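import Groth.Agent.Lib.RatForms33.PowSer
import Groth.Agent.Lib.REqForms33.Main

/-!
# Leading forms of sections of tensor powers of forms along formal lifts
-/

set_option autoImplicit false
set_option linter.style.haveILetI false
universe u

open CategoryTheory CategoryTheory.Limits AlgebraicGeometry Opposite TopologicalSpace
open MvPowerSeries (constantCoeff pderiv coeff)
open scoped TensorProduct

namespace Groth.Agent.Lib.RatForms33

open Groth.Agent.Lib Groth.Agent.Lib.REqForms33

noncomputable section

variable {k : Type u} [Field k] {X : Scheme.{u}} {f : X ⟶ Spec (CommRingCat.of k)}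
  {i : ℕ} {L : X.Modules} {n : ℕ}

section CC

variable {B : Type u} [CommRing B] [Algebra k B]

/-- The constant coefficient. -/
def cc : MvPowerSeries (Fin n) B →ₐ[k] B :=
  { toRingHom := (constantCoeff : MvPowerSeries (Fin n) B →+* B)
    commutes' := fun c => by
      show constantCoeff (algebraMap k (MvPowerSeries (Fin n) B) c) = _
      rw [MvPowerSeries.algebraMap_apply, MvPowerSeries.constantCoeff_C] }

/-- The partial derivatives, over `k`. -/
def dOp (l : Fin n) : Derivation k (MvPowerSeries (Fin n) B) (MvPowerSeries (Fin n) B) :=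
  (pderiv B l).restrictScalars k

theorem cc_dOp (l : Fin n) (h : MvPowerSeries (Fin n) B) :
    cc (k := k) (dOp (k := k) l h) = coeff (Finsupp.single l 1) h := by
  show constantCoeff (pderiv B l h) = _
  rw [← MvPowerSeries.coeff_zero_eq_constantCoeff_apply, MvPowerSeries.coeff_pderiv]
  simp

/-- The derivations of a tuple of indices. -/
def dtup (I : ℕ → Fin i → Fin n) :
    ℕ → Fin i → Derivation k (MvPowerSeries (Fin n) B) (MvPowerSeries (Fin n) B) :=
  fun m a => dOp (I m a)

end CC

variable {K : Type u} [Field K] [Algebra k K] {U : X.affineOpens}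

/-- A lift to series whose linear part is a frame at the constant part. -/
structure IsGood (qs : QuasiSeparated f) (χ : Chi f U.1 (MvPowerSeries (Fin n) K))
    (b : Module.Basis (Fin n) Γ(X, U.1) Γ(Omega.sheaf f, U.1)) (N : Matrix (Fin n) (Fin n) K) : Prop where
  framed : letI : Algebra k Γ(X, U.1) := (str f U.1).toAlgebra; IsFramed (k := k) χ.hom
  dual : ∀ p q, ∑ l, (haveI := qs; cc (k := k) (theta U.2 χ (dOp (k := k) l) (b p))) * N l q = if p = q then 1 else 0

variable (S : Setup f i L) {b : Module.Basis (Fin n) Γ(X, U.1) Γ(Omega.sheaf f, U.1)}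
  {N : Matrix (Fin n) (Fin n) K}

/-- The basis of exterior products. -/
def basisL : Module.Basis (Set.powersetCard (Fin n) i) Γ(X, U.1) Γ(L, U.1) := (b.exteriorPower i).map (S.equiv U).symm

/-- The constant terms of the forms on the basis. -/
def W (χ : Chi f U.1 (MvPowerSeries (Fin n) K)) (b : Module.Basis (Fin n) Γ(X, U.1) Γ(Omega.sheaf f, U.1))
    (T : Set.powersetCard (Fin n) i) (r : Fin i → Fin n) : K :=
  haveI := S.qs
  (Matrix.of fun p a => cc (k := k) (theta U.2 χ (dOp (k := k) (r a)) (b (Set.powersetCard.ofFinEmbEquiv.symm T p)))).det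

theorem cc_form (χ : Chi f U.1 (MvPowerSeries (Fin n) K)) (T : Set.powersetCard (Fin n) i) (r : Fin i → Fin n) :
    cc (k := k) (form S U χ (fun a => dOp (k := k) (r a)) (basisL S (b := b) T)) = W S χ b T r := by
  haveI := S.qs
  show cc (k := k) (wedge U.2 χ _ (S.equiv U (((b.exteriorPower i).map (S.equiv U).symm) T))) = _
  rw [Module.Basis.map_apply, LinearEquiv.apply_symm_apply, exteriorPower.basis_apply, exteriorPower.ιMulti_family]
  exact (congrArg (cc (k := k)) (wedge_ιMulti U.2 χ _ _)).trans (AlgHom.map_det _ _)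

variable {χ χ' : Chi f U.1 (MvPowerSeries (Fin n) K)}

theorem W_dual (h : IsGood S.qs χ b N) (T T' : Set.powersetCard (Fin n) i) :
    ∑ r : Fin i → Fin n, (∏ a, N (r a) (Set.powersetCard.ofFinEmbEquiv.symm T' a)) * W S χ b T r =
      if T = T' then 1 else 0 := by
  haveI := S.qs
  classical
  let e := Set.powersetCard.ofFinEmbEquiv.symm T
  let e' := Set.powersetCard.ofFinEmbEquiv.symm T'
  let M : Fin i → Fin n → K := fun p l => cc (k := k) (theta U.2 χ (dOp (k := k) l) (b (e p)))
  let D := (Matrix.detRowAlternating (R := K) (n := Fin i)).toMultilinearMap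
  have h1 : ∀ r : Fin i → Fin n, W S χ b T r = D fun a p => M p (r a) := fun r =>
    (Matrix.det_transpose _).symm
  calc _ = ∑ r : Fin i → Fin n, D fun a => N (r a) (e' a) • fun p => M p (r a) := by
        refine Finset.sum_congr rfl fun r _ => ?_
        rw [h1, MultilinearMap.map_smul_univ]
        rfl
    _ = D fun a => ∑ l, N l (e' a) • fun p => M p l :=
        (D.map_sum (fun a l => N l (e' a) • fun p => M p l)).symm
    _ = D fun a p => if e p = e' a then 1 else 0 := by
        congr 1; ext a p
        simp only [Finset.sum_apply, Pi.smul_apply, smul_eq_mul]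
        rw [← h.dual (e p) (e' a)]
        exact Finset.sum_congr rfl fun l _ => mul_comm _ _
    _ = if T = T' then 1 else 0 := by
        show Matrix.det (Matrix.of fun a p => if e p = e' a then (1 : K) else 0) = _
        by_cases hTT : T = T'
        · subst hTT
          rw [if_pos rfl, ← Matrix.det_one (R := K) (n := Fin i)]
          congr 1; ext a p
          simp [e, e', Matrix.one_apply, eq_comm]
        · rw [if_neg hTT]
          obtain ⟨x, hx, hx'⟩ : ∃ x, x ∈ T.1 ∧ x ∉ T'.1 := by
            by_contra hc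
            push Not at hc
            exact hTT (Subtype.ext (Finset.eq_of_subset_of_card_le hc (by
              rw [Set.powersetCard.card_eq, Set.powersetCard.card_eq])))
          obtain ⟨p, rfl⟩ := Set.powersetCard.mem_range_ofFinEmbEquiv_symm_iff_mem T x |>.2 hx
          refine Matrix.det_eq_zero_of_column_eq_zero p fun a => ?_
          simp only [Matrix.of_apply]
          rw [if_neg]
          exact fun h => hx' ((congrArg (· ∈ T'.1) h).mpr
            ((Set.powersetCard.mem_range_ofFinEmbEquiv_symm_iff_mem T' _).1 ⟨a, rfl⟩))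

/-- All the values along the partial derivatives have order at least `j`. -/
def Ord (χ : Chi f U.1 (MvPowerSeries (Fin n) K)) (m : ℕ) (z : Γ(CohB1.tensorPow L m, U.1)) (j : ℕ) : Prop :=
  ∀ I : ℕ → Fin i → Fin n, ev S U χ m (dtup I) z ∈ ordI n K j

theorem ev_expand (χ : Chi f U.1 (MvPowerSeries (Fin n) K)) (m : ℕ)
    (c : Set.powersetCard (Fin n) i →₀ Γ(CohB1.tensorPow L m, U.1)) (I : ℕ → Fin i → Fin n) :
    ev S U χ (m + 1) (dtup I) (powEquiv S U m (c.sum fun T x => x ⊗ₜ basisL S (b := b) T)) =
      ∑ T, ev S U χ m (dtup I) (c T) * form S U χ (fun a => dOp (k := k) (I m a)) (basisL S (b := b) T) := by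
  rw [Finsupp.sum_fintype c (fun T x => x ⊗ₜ[Γ(X, U.1)] basisL S (b := b) T) (fun T => TensorProduct.zero_tmul _ _),
    map_sum, map_sum]
  exact Finset.sum_congr rfl fun T _ => ev_tmul S U χ m (dtup I) _ _

/-- The values of the coefficients have the order of the values. -/
theorem ord_coeff (h : IsGood S.qs χ b N) {m : ℕ} (c : Set.powersetCard (Fin n) i →₀ Γ(CohB1.tensorPow L m, U.1))
    {j : ℕ} (hz : Ord S χ (m + 1) (powEquiv S U m (c.sum fun T x => x ⊗ₜ basisL S (b := b) T)) j)
    (T : Set.powersetCard (Fin n) i) : Ord S χ m (c T) j := by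
  classical
  intro I
  suffices H : ∀ l ≤ j, ∀ T, ev S U χ m (dtup I) (c T) ∈ ordI n K l from H j le_rfl T
  intro l
  induction l with
  | zero => intro _ T; rw [ordI_zero]; trivial
  | succ l ih =>
    intro hl T
    let E := fun T => ev S U χ m (dtup I) (c T)
    let D := fun (T : Set.powersetCard (Fin n) i) (r : Fin i → Fin n) =>
      form S U χ (fun a => dOp (k := k) (r a)) (basisL S (b := b) T)
    have hF : ∀ r, ∑ T, E T * D T r ∈ ordI n K j := fun r => by
      have h1 := hz (Function.update I m r)
      rw [ev_expand] at h1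
      convert h1 using 3 with T
      · exact ev_congr S U χ m _ _ (fun l' hl' => by
          funext a; simp [dtup, Function.update_of_ne (Nat.ne_of_lt hl')]) _
      · simp [D]
    let C' : (Fin i → Fin n) → MvPowerSeries (Fin n) K :=
      fun r => MvPowerSeries.C (∏ a, N (r a) (Set.powersetCard.ofFinEmbEquiv.symm T a))
    have hG : ∑ r, C' r * ∑ T', E T' * D T' r ∈ ordI n K (l + 1) :=
      Submodule.sum_mem _ fun r _ => Ideal.mul_mem_left _ _ (ordI_anti hl (hF r))
    have hsplit : ∑ r, C' r * ∑ T', E T' * D T' r =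
        E T + ∑ T', E T' * ((∑ r, C' r * D T' r) - if T' = T then 1 else 0) := by
      simp only [Finset.mul_sum, mul_sub, Finset.sum_sub_distrib, mul_ite, mul_one, mul_zero,
        Finset.sum_ite_eq', Finset.mem_univ, if_true]
      rw [Finset.sum_comm, add_sub_cancel]
      exact Finset.sum_congr rfl fun T' _ => Finset.sum_congr rfl fun r _ => by ring
    have hrest : ∑ T', E T' * ((∑ r, C' r * D T' r) - if T' = T then 1 else 0) ∈ ordI n K (l + 1) := by
      refine Submodule.sum_mem _ fun T' _ => ordI_mul_mem (ih (Nat.le_of_succ_le hl) T') (mem_ordI_one.2 ?_)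
      show cc (k := k) _ = 0
      rw [map_sub, map_sum, sub_eq_zero]
      simp only [map_mul, D, cc_form S χ]
      rw [show cc (k := k) (if T' = T then (1 : MvPowerSeries (Fin n) K) else 0) = if T' = T then 1 else 0 by
        split_ifs <;> simp, ← W_dual S h T' T]
      refine Finset.sum_congr rfl fun r _ => congrArg (· * _) ?_
      exact MvPowerSeries.constantCoeff_C _
    rw [hsplit] at hG
    simpa using sub_mem hG hrest

/-- The leading values only depend on the linear part of the lift. -/
theorem lead_eq_ev (h : IsGood S.qs χ b N) (h0 : ∀ a, cc (k := k) (χ'.hom a) = cc (k := k) (χ.hom a))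
    (h1 : ∀ l a, coeff (Finsupp.single l 1) (χ'.hom a) = coeff (Finsupp.single l 1) (χ.hom a)) :
    ∀ (m : ℕ) (z : Γ(CohB1.tensorPow L m, U.1)) (j : ℕ), Ord S χ m z j →
      ∀ I, ev S U χ' m (dtup I) z - ev S U χ m (dtup I) z ∈ ordI n K (j + 1) := by
  haveI := S.qs
  intro m
  induction m with
  | zero =>
    intro z j hz I
    letI : Algebra k Γ(X, U.1) := (str f U.1).toAlgebra
    exact lead_eq h.framed χ'.hom h0 h1
      (fun c => (χ'.hom_str c).trans (MvPowerSeries.algebraMap_apply)) (hz I)
  | succ m ih =>
    intro z j hz I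
    obtain ⟨t, rfl⟩ := (powEquiv S U m).surjective z
    obtain ⟨c, rfl⟩ := TensorProduct.eq_repr_basis_right (basisL S (b := b)) t
    rw [ev_expand, ev_expand, ← Finset.sum_sub_distrib]
    refine Submodule.sum_mem _ fun T _ => ?_
    have hE := ord_coeff S h c hz T
    set D' := form S U χ' (fun a => dOp (k := k) (I m a)) (basisL S (b := b) T) with hD'
    set D := form S U χ (fun a => dOp (k := k) (I m a)) (basisL S (b := b) T) with hD
    have hDD : D' - D ∈ ordI n K 1 := mem_ordI_one.2 (by
      show cc (k := k) (D' - D) = 0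
      rw [map_sub, sub_eq_zero, hD', hD, cc_form, cc_form]
      unfold W
      congr 1
      ext p a
      let η := Set.powersetCard.ofFinEmbEquiv.symm T
      let θ : Γ(Omega.sheaf f, U.1) →ₛₗ[(χ.map (cc (k := k))).hom] K :=
        { toFun := fun y => cc (k := k) (theta U.2 χ (dOp (k := k) (I m a)) y)
          map_add' := fun y y' => by rw [map_add, map_add]
          map_smul' := fun e y => by rw [LinearMap.map_smulₛₗ, smul_eq_mul, map_mul]; rfl }
      let θ' : Γ(Omega.sheaf f, U.1) →ₛₗ[(χ.map (cc (k := k))).hom] K :=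
        { toFun := fun y => cc (k := k) (theta U.2 χ' (dOp (k := k) (I m a)) y)
          map_add' := fun y y' => by rw [map_add, map_add]
          map_smul' := fun e y => by
            rw [LinearMap.map_smulₛₗ, smul_eq_mul, map_mul, h0]; rfl }
      refine theta_ext U.2 (χ.map (cc (k := k))) θ' θ (fun y => ?_) (b (η p))
      show cc (k := k) (theta U.2 χ' _ _) = cc (k := k) (theta U.2 χ _ _)
      exact (congrArg (cc (k := k)) (theta_d U.2 χ' _ y)).trans ((cc_dOp _ _).trans ((h1 _ y).trans
        ((cc_dOp _ _).symm.trans (congrArg (cc (k := k)) (theta_d U.2 χ _ y)).symm))))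
    rw [show ev S U χ' m (dtup I) (c T) * D' - ev S U χ m (dtup I) (c T) * D =
      (ev S U χ' m (dtup I) (c T) - ev S U χ m (dtup I) (c T)) * D' + ev S U χ m (dtup I) (c T) * (D' - D) by ring]
    exact add_mem (Ideal.mul_mem_right _ _ (ih (c T) j hE I)) (ordI_mul_mem (hE I) hDD)

/-- A section all of whose values vanish to every order is zero. -/
theorem eq_zero_of_ord [IsIntegral X] [LocallyOfFiniteType f] (h : IsGood S.qs χ b N) [Nonempty U.1] :
    ∀ (m : ℕ) (z : Γ(CohB1.tensorPow L m, U.1)), (∀ j, Ord S χ m z j) → (0 < i → 0 < n) → z = 0 := by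
  intro m
  induction m with
  | zero =>
    intro z hz hin
    letI : Algebra k Γ(X, U.1) := (str f U.1).toAlgebra
    haveI : Algebra.FiniteType k Γ(X, U.1) := by
      have h2 := Scheme.Hom.finiteType_appLE f (isAffineOpen_top (Spec (CommRingCat.of k))) U.2 (le_pre f U.1)
      have h3 : (str f U.1).FiniteType :=
        h2.comp (RingHom.FiniteType.of_surjective _ (ConcreteCategory.bijective_of_isIso (Scheme.ΓSpecIso (CommRingCat.of k)).inv).2)
      exact h3
    refine (injective_of_framed h.framed) (Eq.trans ?_ (map_zero χ.hom).symm)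
    ext d
    let I : ℕ → Fin i → Fin n := fun _ a => ⟨0, hin (Nat.lt_of_le_of_lt (Nat.zero_le _) a.2)⟩
    exact (mem_ordI.1 (hz (Finsupp.degree d + 1) I)) d (Nat.lt_succ_self _)
  | succ m ih =>
    intro z hz hin
    obtain ⟨t, rfl⟩ := (powEquiv S U m).surjective z
    obtain ⟨c, rfl⟩ := TensorProduct.eq_repr_basis_right (basisL S (b := b)) t
    have : c = 0 := Finsupp.ext fun T => ih (c T) (fun j => ord_coeff S h c (hz j) T) hin
    simp [this]

end

end Groth.Agent.Lib.RatForms33
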