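import Mathlib.RingTheory.MvPowerSeries.Equiv
import Mathlib.RingTheory.Smooth.AdicCompletion

/-!
# Lifting tangent vectors to formal arcs
-/

set_option autoImplicit false
set_option linter.style.haveILetI false
universe u

open MvPowerSeries Finsupp

namespace Groth.Agent.Lib.RatForms33

noncomputable section

theorem factor_evalₐ {S : Type u} [CommRing S] (I : Ideal S) {m n : ℕ} (h : m ≤ n) (y : AdicCompletion I S) :
    Ideal.Quotient.factor (Ideal.pow_le_pow_right h) (AdicCompletion.evalₐ I n y) = AdicCompletion.evalₐ I m y := by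
  obtain ⟨c, rfl⟩ := AdicCompletion.mk_surjective I S y
  rw [AdicCompletion.evalₐ_mk, AdicCompletion.evalₐ_mk, Ideal.Quotient.factor_mk, Ideal.Quotient.eq]
  have := SModEq.sub_mem.1 (c.property h)
  rw [smul_eq_mul, Ideal.mul_top] at this
  simpa using neg_mem this

variable {k : Type u} [CommRing k] {A : Type u} [CommRing A] [Algebra k A] [Algebra.FormallySmooth k A]
  {B : Type u} [CommRing B] [Algebra k B] {n : ℕ}

/-- Tangent vectors at a point lift to a map to series. -/
theorem exists_lift (ψ : A →ₐ[k] B) (l : Fin n → A → B) (hadd : ∀ q a b, l q (a + b) = l q a + l q b)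
    (hmul : ∀ q a b, l q (a * b) = ψ a * l q b + ψ b * l q a) (hk : ∀ q (c : k), l q (algebraMap k A c) = 0) :
    ∃ χ : A →+* MvPowerSeries (Fin n) B, (∀ a, constantCoeff (χ a) = ψ a) ∧
      (∀ q a, coeff (single q 1) (χ a) = l q a) ∧ ∀ c, χ (algebraMap k A c) = C (algebraMap k B c) := by
  classical
  let S := MvPolynomial (Fin n) B
  let I : Ideal S := MvPolynomial.idealOfVars (Fin n) B
  let p : A → S := fun a => MvPolynomial.C (ψ a) + ∑ q, MvPolynomial.C (l q a) * MvPolynomial.X q
  have hI : ∀ a, (∑ q, MvPolynomial.C (l q a) * MvPolynomial.X q : S) ∈ I := fun a =>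
    Submodule.sum_mem _ fun q _ => Ideal.mul_mem_left _ _ (Ideal.subset_span ⟨q, rfl⟩)
  have hl0 : ∀ q, l q 0 = 0 := fun q => by simpa using hadd q 0 0
  have hl1 : ∀ q, l q 1 = 0 := fun q => by simpa using hk q 1
  let ρ : A →ₐ[k] S ⧸ I ^ 2 :=
    { toFun := fun a => Ideal.Quotient.mk _ (p a)
      map_one' := by simp [p, hl1]
      map_zero' := by simp [p, hl0]
      map_add' := fun a b => by
        rw [← map_add]
        refine congrArg _ ?_
        simp only [p, map_add, hadd, add_mul, Finset.sum_add_distrib]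
        ring
      map_mul' := fun a b => by
        rw [← map_mul, Ideal.Quotient.eq]
        have h2 := neg_mem (Ideal.mul_mem_mul (hI a) (hI b))
        rw [← pow_two] at h2
        convert h2 using 1
        simp only [p, map_mul, hmul, map_add, add_mul, Finset.sum_add_distrib, mul_assoc, ← Finset.mul_sum]
        ring
      commutes' := fun c => by
        show Ideal.Quotient.mk _ (p _) = _
        simp only [p, hk, map_zero, zero_mul, Finset.sum_const_zero, add_zero, AlgHom.commutes]
        rfl }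
  obtain ⟨g, hg⟩ := Algebra.FormallySmooth.exists_adicCompletionEvalOneₐ_comp_eq ρ
  have hle : ∀ j, (I ^ 2) ^ j ≤ I ^ j := fun j => by
    rw [← pow_mul]; exact Ideal.pow_le_pow_right (by omega)
  let fam : ∀ j, A →+* S ⧸ I ^ j := fun j =>
    (Ideal.Quotient.factor (hle j)).comp ((AdicCompletion.evalₐ (I ^ 2) j).toRingHom.comp g.toRingHom)
  have hfam : ∀ {i j : ℕ} (h : i ≤ j), (Ideal.Quotient.factorPow I h).comp (fam j) = fam i := fun {i j} h =>
    RingHom.ext fun a => by
      have h1 := factor_evalₐ (I ^ 2) h (g a)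
      obtain ⟨y, hy⟩ := Ideal.Quotient.mk_surjective (AdicCompletion.evalₐ (I ^ 2) j (g a))
      show Ideal.Quotient.factor (Ideal.pow_le_pow_right h) (Ideal.Quotient.factor (hle j) (AdicCompletion.evalₐ (I ^ 2) j (g a))) =
        Ideal.Quotient.factor (hle i) (AdicCompletion.evalₐ (I ^ 2) i (g a))
      rw [← h1, ← hy]
      rfl
  let Ψ : A →+* MvPowerSeries (Fin n) B :=
    (MvPowerSeries.toAdicCompletionAlgEquiv (Fin n) B).symm.toRingEquiv.toRingHom.comp
      (AdicCompletion.liftRingHom I fam hfam)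
  have hev : ∀ a j, Ideal.Quotient.mk (I ^ j) (truncTotal j (Ψ a)) = fam j a := fun a j => by
    have h1 : toAdicCompletion (Fin n) B (Ψ a) = AdicCompletion.liftRingHom I fam hfam a :=
      (MvPowerSeries.toAdicCompletionAlgEquiv (Fin n) B).apply_symm_apply _
    have h2 := congrArg (AdicCompletion.evalₐ I j) h1
    rw [AdicCompletion.evalₐ_liftRingHom] at h2
    exact (AdicCompletion.evalₐ_liftAlgHom (MvPolynomial.idealOfVars (Fin n) B) (truncTotalAlgHom (Fin n) B)
      (fun h => AlgHom.ext fun _ => by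
      simpa [Ideal.Quotient.mk_eq_mk_iff_sub_mem] using
        truncTotal_sub_truncTotal_mem_pow_idealOfVars h (le_refl _) _) j _).symm.trans h2
  have h1 : ∀ a, fam 2 a = Ideal.Quotient.mk _ (p a) := fun a => by
    have h3 := congrArg (fun t => t a) (congrArg DFunLike.coe hg)
    have h4 : Ideal.Quotient.mk (I ^ 2) (p a) = ρ a := rfl
    have h5 := factor_evalₐ (I ^ 2) (show 1 ≤ 2 by omega) (g a)
    obtain ⟨y, hy⟩ := Ideal.Quotient.mk_surjective (AdicCompletion.evalₐ (I ^ 2) 2 (g a))
    rw [h4, ← h3]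
    show Ideal.Quotient.factor (hle 2) (AdicCompletion.evalₐ (I ^ 2) 2 (g a)) =
      AdicCompletion.evalOneₐ (I ^ 2) (g a)
    rw [← AdicCompletion.factorₐ_evalₐ_one, ← h5, ← hy]
    rfl
  have hco : ∀ a d, degree d < 2 → coeff d (Ψ a) = (p a).coeff d := fun a d hd => by
    have := Ideal.Quotient.eq.1 ((hev a 2).trans (h1 a))
    have h6 := (MvPolynomial.mem_pow_idealOfVars_iff' 2 _).1 this d hd
    rwa [MvPolynomial.coeff_sub, coeff_truncTotal _ hd, sub_eq_zero] at h6
  refine ⟨Ψ, fun a => ?_, fun q a => ?_, fun c => ?_⟩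
  · rw [← coeff_zero_eq_constantCoeff_apply, hco a 0 (by simp)]
    show (MvPolynomial.C (ψ a) + ∑ q, MvPolynomial.C (l q a) * MvPolynomial.X q : MvPolynomial (Fin n) B).coeff 0 = _
    rw [MvPolynomial.coeff_add, MvPolynomial.coeff_sum]
    simp [MvPolynomial.coeff_C_mul, MvPolynomial.coeff_X]
  · rw [hco a _ (by simp)]
    show (MvPolynomial.C (ψ a) + ∑ q, MvPolynomial.C (l q a) * MvPolynomial.X q : MvPolynomial (Fin n) B).coeff
      (single q 1) = _
    rw [MvPolynomial.coeff_add, MvPolynomial.coeff_sum, Finset.sum_eq_single q]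
    · simp [MvPolynomial.coeff_C_mul, MvPolynomial.coeff_X, MvPolynomial.coeff_C, eq_comm (a := (0 : Fin n →₀ ℕ))]
    · intro b _ hb
      simp [MvPolynomial.coeff_C_mul, MvPolynomial.coeff_X, single_eq_single_iff, hb]
    · simp
  · ext d
    have h7 := hev (algebraMap k A c) (degree d + 1)
    have h8 : fam (degree d + 1) (algebraMap k A c) =
        Ideal.Quotient.mk _ (MvPolynomial.C (algebraMap k B c)) := by
      show Ideal.Quotient.factor (hle _) (AdicCompletion.evalₐ (I ^ 2) _ (g (algebraMap k A c))) = _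
      rw [AlgHom.commutes, IsScalarTower.algebraMap_apply k S (AdicCompletion (I ^ 2) S), AlgHom.commutes]
      rfl
    have := Ideal.Quotient.eq.1 (h7.trans h8)
    have h9 := (MvPolynomial.mem_pow_idealOfVars_iff' _ _).1 this d (Nat.lt_succ_self _)
    rw [MvPolynomial.coeff_sub, coeff_truncTotal _ (Nat.lt_succ_self _), sub_eq_zero] at h9
    rw [h9, MvPolynomial.coeff_C, coeff_C]
    simp [eq_comm]

end

end Groth.Agent.Lib.RatForms33
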