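import Groth.Agent.Lib.RatForms33.Frame
import Groth.Agent.Lib.RatForms33.Core
import Groth.Agent.Lib.RatForms33.Lift

/-!
# Formal arcs along a framed rational curve
-/

set_option autoImplicit false
set_option linter.style.haveILetI false
universe u

open CategoryTheory CategoryTheory.Limits AlgebraicGeometry Opposite TopologicalSpace
open scoped TensorProduct

namespace Groth.Agent.Lib.RatForms33

open Groth.Agent.Lib Groth.Agent.Lib.REqForms33 Groth.Agent.Lib.Modules
open Groth.Agent.H34.SplitP1 (P1 U U01)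
open Groth.Agent.Lib.TensorMod.Basis (comb IsBasis rs_comb)
open Groth.Agent.Lib.TensorMod.Dual (rs rf rs_rs rs_smul rs_self)
open Groth.Agent.Lib.DerivedOX.PullbackStalk
open Groth.Agent.H52.FDesc.FTDescent (pullSec germ_pullSec)

noncomputable section

variable {k : Type u} [Field k] {X : Scheme.{u}} {f : X ⟶ Spec (CommRingCat.of k)} {g : P1 k ⟶ X}
  (hg : g ≫ f = CohB1.ProjSpace.toSpec 1 k) {n : ℕ} {e : ∀ a : Fin 2, Fin n → Γ(EOm f g, U k a)}
  (he : ∀ a, IsBasis (e a))

/-- Inverse images of differentials generate the stalks. -/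
theorem span_germ_pull [(Omega.sheaf f).IsQuasicoherent] {W : X.Opens} (hW : IsAffineOpen W) (v : P1 k) (h : g v ∈ W) :
    Submodule.span (B v) (Set.range fun y : Γ(Omega.sheaf f, W) =>
      (EOm f g).presheaf.germ (g ⁻¹ᵁ W) v h (pull (g := g) y)) = ⊤ := by
  let _ : Algebra (X.presheaf.stalk (g v)) ((P1 k).presheaf.stalk v) := (g.stalkMap v).hom.toAlgebra
  let c : (P1 k).presheaf.stalk v ⊗[X.presheaf.stalk (g v)] (Omega.sheaf f).presheaf.stalk (g v) ≃ₗ[(P1 k).presheaf.stalk v]
    (EOm f g).presheaf.stalk v := ((pullbackStalkIso g v).app (Omega.sheaf f)).toLinearEquiv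
  refine eq_top_iff.mpr fun z _ => ?_
  obtain ⟨z, rfl⟩ := c.surjective z
  induction z using TensorProduct.induction_on with
  | zero => rw [map_zero]; exact zero_mem _
  | add a b ha hb => rw [map_add]; exact add_mem (ha trivial) (hb trivial)
  | tmul l m =>
    obtain ⟨a, t, ha, hat⟩ := Groth.Agent.Lib.StalkLoc.Basic.exists_smul_eq_germ hW h m
    obtain ⟨u, hu⟩ := ((X.mem_basicOpen a (g v) h).mp ha).exists_left_inv
    have hm : m = u • (Omega.sheaf f).presheaf.germ W (g v) h t := by rw [← hat, ← mul_smul, hu, one_smul]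
    rw [hm, TensorProduct.tmul_smul, TensorProduct.smul_tmul', ← mul_one (u • l), ← smul_eq_mul,
      ← TensorProduct.smul_tmul', map_smul]
    exact Submodule.smul_mem _ _ (Submodule.subset_span ⟨t, (germ_pullSec g (Omega.sheaf f) v h t).symm⟩)

/-- The functionals of a frame are independent. -/
theorem th_indep [(Omega.sheaf f).IsQuasicoherent] (a : Fin 2) (v : P1 k) (hv : v ∈ U k a) {W : X.Opens}
    (hW : IsAffineOpen W) (h : g v ∈ W) (c : Fin n → B v) (hc : ∀ y, ∑ l, c l * th hg he a v hv W h l y = 0) :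
    c = 0 := by
  classical
  let P : ↑((EOm f g).presheaf.stalk v) → Prop := fun z =>
    ∃ (V : (P1 k).Opens) (hvV : v ∈ V) (hVa : V ≤ U k a) (q : Fin n → Γ(P1 k, V)),
      (EOm f g).presheaf.germ V v hvV (comb (e a) hVa q) = z ∧ ∑ l, c l * (P1 k).presheaf.germ V v hvV (q l) = 0
  have germR : ∀ {V V' : (P1 k).Opens} (hle : V' ≤ V) (hm : v ∈ V') (r : Γ(P1 k, V)),
      (P1 k).presheaf.germ V' v hm (rf hle r) = (P1 k).presheaf.germ V v (hle hm) r :=
    fun hle hm r => TopCat.Presheaf.germ_res_apply (P1 k).presheaf (homOfLE hle) _ hm r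
  have germM : ∀ {V V' : (P1 k).Opens} (hle : V' ≤ V) (hm : v ∈ V') (r : Γ((EOm f g), V)),
      (EOm f g).presheaf.germ V' v hm (rs (EOm f g) hle r) = (EOm f g).presheaf.germ V v (hle hm) r :=
    fun hle hm r => TopCat.Presheaf.germ_res_apply (EOm f g).presheaf (homOfLE hle) _ hm r
  have hP : ∀ z, P z := by
    intro z
    have hz : z ∈ Submodule.span (B v) (Set.range fun y : Γ(Omega.sheaf f, W) =>
        (EOm f g).presheaf.germ (g ⁻¹ᵁ W) v h (pull (g := g) y)) := by
      rw [span_germ_pull hW v h]; trivial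
    induction hz using Submodule.span_induction with
    | mem z hz =>
      obtain ⟨y, rfl⟩ := hz
      refine ⟨g ⁻¹ᵁ W ⊓ U k a, ⟨h, hv⟩, inf_le_right, crd he a y, ?_, hc y⟩
      rw [crd_spec]
      exact germM _ _ _
    | zero => exact ⟨U k a, hv, le_rfl, 0, by simp [comb], by simp⟩
    | add z z' _ _ ih ih' =>
      obtain ⟨V, hvV, hVa, q, rfl, hq⟩ := ih
      obtain ⟨V', hvV', hVa', q', rfl, hq'⟩ := ih'
      refine ⟨V ⊓ V', ⟨hvV, hvV'⟩, inf_le_left.trans hVa,
        fun l => rf inf_le_left (q l) + rf inf_le_right (q' l), ?_, ?_⟩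
      · rw [show comb (e a) (inf_le_left.trans hVa) (fun l => rf inf_le_left (q l) + rf inf_le_right (q' l)) =
          rs (EOm f g) (inf_le_left : V ⊓ V' ≤ V) (comb (e a) hVa q) + rs (EOm f g) inf_le_right (comb (e a) hVa' q') by
            rw [rs_comb, rs_comb]; simp [comb, add_smul, Finset.sum_add_distrib]]
        exact (map_add _ _ _).trans (congrArg₂ (· + ·) (germM _ _ _) (germM _ _ _))
      · refine ((Finset.sum_congr rfl fun l _ => ?_).trans Finset.sum_add_distrib).trans
          ((congrArg₂ (· + ·) hq hq').trans (add_zero 0))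
        rw [← mul_add]
        exact congrArg (c l * ·) ((map_add _ _ _).trans (congrArg₂ (· + ·) (germR _ _ _) (germR _ _ _)))
    | smul r z _ ih =>
      obtain ⟨V, hvV, hVa, q, rfl, hq⟩ := ih
      obtain ⟨V', hvV', r', rfl⟩ := (P1 k).presheaf.exists_germ_eq r
      refine ⟨V' ⊓ V, ⟨hvV', hvV⟩, inf_le_right.trans hVa, fun l => rf inf_le_left r' * rf inf_le_right (q l),
        ?_, ?_⟩
      · rw [show comb (e a) (inf_le_right.trans hVa) (fun l => rf inf_le_left r' * rf inf_le_right (q l)) =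
          rf (inf_le_left : V' ⊓ V ≤ V') r' • rs (EOm f g) inf_le_right (comb (e a) hVa q) by
            rw [rs_comb]; simp [comb, Finset.smul_sum, smul_smul]]
        erw [StalkModule.germ_smul]
        exact congrArg₂ (· • ·) (germR _ _ _) (germM _ _ _)
      · refine ((Finset.sum_congr rfl fun l _ => ?_).trans (Finset.mul_sum _ _ _).symm).trans
          ((congrArg (_ * ·) hq).trans (mul_zero ((P1 k).presheaf.germ V' v hvV' r')))
        refine (congrArg (c l * ·) ((map_mul _ _ _).trans (congrArg₂ (· * ·) (germR _ _ _) (germR _ _ _)))).trans ?_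
        exact mul_left_comm _ _ _
  funext p
  obtain ⟨V, hvV, hVa, q, hq, hsum⟩ := hP ((EOm f g).presheaf.germ (U k a) v hv (e a p))
  obtain ⟨V', hvV', i, j, hij⟩ := TopCat.Presheaf.germ_eq (EOm f g).presheaf v hvV hv _ _ hq
  have hij' : rs (EOm f g) i.le (comb (e a) hVa q) = rs (EOm f g) j.le (e a p) := hij
  have hcoord : (fun l => rf i.le (q l)) = fun l => if l = p then 1 else 0 :=
    (he a V' (i.le.trans hVa)).1 (by
      rw [← rs_comb (e a) hVa i.le, hij']
      simp [comb, ite_smul])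
  have := congrArg (fun q' : Fin n → Γ(P1 k, V') => ∑ l, c l * (P1 k).presheaf.germ V' v hvV' (q' l)) hcoord
  simp only [germR, hsum] at this
  simpa [apply_ite, mul_ite] using this.symm

theorem formallySmooth_str [Smooth f] (W : X.affineOpens) :
    letI : Algebra k Γ(X, W.1) := (str f W.1).toAlgebra
    Algebra.FormallySmooth k Γ(X, W.1) := by
  letI : Algebra k Γ(X, W.1) := (str f W.1).toAlgebra
  have h : (str f W.1).Smooth := RingHom.Smooth.respectsIso.2 _
    (Scheme.ΓSpecIso (CommRingCat.of k)).symm.commRingCatIsoToRingEquiv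
    (f.smooth_appLE (isAffineOpen_top _) W.2 (le_pre f W.1))
  haveI : Algebra.Smooth k Γ(X, W.1) := h
  infer_instance

theorem exists_semilinear [QuasiSeparated f] {W : X.Opens} (hW : IsAffineOpen W) {R : Type u} [CommRing R]
    (σ : Γ(X, W) →+* R) {M : Type u} [AddCommGroup M] [Module R M] (δ : Γ(X, W) → M)
    (hadd : ∀ a b, δ (a + b) = δ a + δ b) (hmul : ∀ a b, δ (a * b) = σ a • δ b + σ b • δ a)
    (hk : ∀ c : k, δ (str f W c) = 0) :
    ∃ θ : Γ(Omega.sheaf f, W) →ₛₗ[σ] M, ∀ a, θ (OmegaSh.dSect f W a) = δ a := by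
  letI : Module Γ(X, W) M := Module.compHom M σ
  let N : ModuleCat.{u} Γ(X, W) := ModuleCat.of Γ(X, W) M
  let D : N.Derivation (f.appLE ⊤ W (le_pre f W)) :=
    ModuleCat.Derivation.mk (fun b => (δ b : M)) hadd hmul
      (fun c => by
        show δ (f.appLE ⊤ W (le_pre f W) c) = 0
        have : c = (Scheme.ΓSpecIso (CommRingCat.of k)).inv ((Scheme.ΓSpecIso (CommRingCat.of k)).hom c) := by
          rw [← ConcreteCategory.comp_apply, Iso.hom_inv_id]
          rfl
        rw [this]
        exact hk _)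
  haveI := Kaehler.ToSect.isIso_toSect f hW (isAffineOpen_top (Spec (CommRingCat.of k))) (le_pre f W)
  let l : OmAff.sectMod (Omega.sheaf f) W ⟶ N := inv (OmAff.toSect f ⊤ W (le_pre f W)) ≫ D.desc
  refine ⟨{ toFun := fun x => l x, map_add' := fun x y => map_add l.hom x y,
            map_smul' := fun a x => l.hom.map_smul a x }, fun b => ?_⟩
  show l (OmegaSh.dSect f W b) = δ b
  rw [← OmAff.toSect_d f ⊤ W (le_pre f W) b]
  show (OmAff.toSect f ⊤ W (le_pre f W) ≫ l) (CommRingCat.KaehlerDifferential.d b) = _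
  rw [IsIso.hom_inv_id_assoc]
  exact D.desc_d b

/-- A lift of the generic point of the curve along a frame. -/
theorem exists_good [Smooth f] [qs : QuasiSeparated f] [(Omega.sheaf f).IsQuasicoherent] (W : X.affineOpens)
    (h : g ηP ∈ W.1) (hη : (ηP : P1 k) ∈ U k 0)
    (b : Module.Basis (Fin n) Γ(X, W.1) Γ(Omega.sheaf f, W.1)) :
    ∃ (χ : Chi f W.1 (MvPowerSeries (Fin n) (P1 k).functionField)) (N : Matrix (Fin n) (Fin n) (P1 k).functionField),
      IsGood qs χ b N ∧ (∀ a, cc (k := k) (χ.hom a) = (pt hg W.1 ηP h).hom a) ∧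
      ∀ l a, MvPowerSeries.coeff (Finsupp.single l 1) (χ.hom a) = dlin hg he 0 ηP hη W.1 h l a := by
  classical
  let K : Type u := (P1 k).functionField
  letI : Algebra k Γ(X, W.1) := (str f W.1).toAlgebra
  haveI := formallySmooth_str (f := f) W
  let ψ : Γ(X, W.1) →ₐ[k] K := { toRingHom := (pt hg W.1 ηP h).hom, commutes' := (pt hg W.1 ηP h).hom_str }
  let t := th hg he 0 ηP hη W.1 h
  obtain ⟨χ0, hc, hl, hk⟩ := exists_lift (n := n) ψ (fun l a => dlin hg he 0 ηP hη W.1 h l a)
    (dlin_add hg he 0 ηP hη W.1 h) (dlin_mul hg he 0 ηP hη W.1 h) (dlin_str hg he 0 ηP hη W.1 h)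
  let χ : Chi f W.1 (MvPowerSeries (Fin n) K) :=
    ⟨χ0, fun c => (hk c).trans MvPowerSeries.algebraMap_apply.symm⟩
  have h0 : ∀ a, cc (k := k) (χ.hom a) = (pt hg W.1 ηP h).hom a := hc
  let M : Matrix (Fin n) (Fin n) K := Matrix.of fun q l => t l (b q)
  have hM : IsUnit M := by
    refine Matrix.mulVec_injective_iff_isUnit.1 fun c c' hcc => sub_eq_zero.1 ?_
    refine th_indep hg he 0 ηP hη W.2 h _ fun y => ?_
    let T : Γ(Omega.sheaf f, W.1) →ₛₗ[(pt hg W.1 ηP h).hom] K := ∑ l, (c - c') l • t l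
    have hT : T = 0 := b.ext fun q => by
      have := congrFun hcc q
      simp only [T, LinearMap.sum_apply, LinearMap.smul_apply, LinearMap.zero_apply, smul_eq_mul, Pi.sub_apply]
      simp only [Matrix.mulVec, dotProduct, M, Matrix.of_apply] at this
      rw [Finset.sum_congr rfl fun l _ => sub_mul (c l) (c' l) (t l (b q)), Finset.sum_sub_distrib, sub_eq_zero]
      simpa [mul_comm] using this
    have := congr($hT y)
    simpa [T, LinearMap.sum_apply] using this
  have hdet := (Matrix.isUnit_iff_isUnit_det _).1 hM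
  refine ⟨χ, M⁻¹, ⟨⟨hk, fun V _ _ δ hadd hmul hδ => ?_, fun c hc0 => ?_⟩, fun p q => ?_⟩, h0, hl⟩
  · simp only [show ∀ a, MvPowerSeries.constantCoeff (χ.hom a) = (pt hg W.1 ηP h).hom a from h0] at hmul
    obtain ⟨θ, hθ⟩ := exists_semilinear W.2 (pt hg W.1 ηP h).hom δ hadd hmul hδ
    refine ⟨fun l => ∑ q, M⁻¹ l q • θ (b q), fun a => ?_⟩
    let R : Γ(Omega.sheaf f, W.1) →ₛₗ[(pt hg W.1 ηP h).hom] V :=
      { toFun := fun y => ∑ l, t l y • ∑ q, M⁻¹ l q • θ (b q)
        map_add' := fun y y' => by simp [add_smul, Finset.sum_add_distrib]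
        map_smul' := fun r y => by simp [Finset.smul_sum, smul_smul, mul_assoc] }
    have hR : θ = R := b.ext fun p => by
      show θ (b p) = ∑ l, M p l • ∑ q, M⁻¹ l q • θ (b q)
      simp only [Finset.smul_sum, smul_smul]
      rw [Finset.sum_comm]
      simp only [← Finset.sum_smul, ← Matrix.mul_apply, Matrix.mul_nonsing_inv _ hdet, Matrix.one_apply, ite_smul,
        one_smul, zero_smul, Finset.sum_ite_eq, Finset.mem_univ, if_true]
    refine ((hθ a).symm.trans congr($hR (OmegaSh.dSect f W.1 a))).trans ?_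
    show ∑ l, t l (OmegaSh.dSect f W.1 a) • (∑ q, M⁻¹ l q • θ (b q)) = _
    exact Finset.sum_congr rfl fun l _ => congrArg (fun z : K => z • ∑ q, M⁻¹ l q • θ (b q)) (hl l a).symm
  · refine th_indep hg he 0 ηP hη W.2 h c fun y => ?_
    let T : Γ(Omega.sheaf f, W.1) →ₛₗ[(pt hg W.1 ηP h).hom] K := ∑ l, c l • t l
    have := theta_ext W.2 (pt hg W.1 ηP h) T 0 (fun a => ?_) y
    · simpa [T, LinearMap.sum_apply] using this
    · simp only [T, LinearMap.sum_apply, LinearMap.smul_apply, LinearMap.zero_apply, smul_eq_mul]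
      refine Eq.trans (Finset.sum_congr rfl fun l _ => ?_) (hc0 a)
      rw [mul_comm]
      exact congrArg (· * _) (hl l a).symm
  · rw [← show (M * M⁻¹) p q = if p = q then 1 else 0 by rw [Matrix.mul_nonsing_inv _ hdet, Matrix.one_apply],
      Matrix.mul_apply]
    refine Finset.sum_congr rfl fun l _ => congrArg (· * _) ?_
    let θ : Γ(Omega.sheaf f, W.1) →ₛₗ[(χ.map (cc (k := k))).hom] K :=
      { toFun := fun y => cc (k := k) (theta W.2 χ (dOp (k := k) l) y)
        map_add' := fun y y' => by rw [map_add, map_add]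
        map_smul' := fun r y => by rw [LinearMap.map_smulₛₗ, smul_eq_mul, map_mul]; rfl }
    let θ' : Γ(Omega.sheaf f, W.1) →ₛₗ[(χ.map (cc (k := k))).hom] K :=
      { toFun := fun y => t l y
        map_add' := fun y y' => map_add _ y y'
        map_smul' := fun r y => by
          rw [LinearMap.map_smulₛₗ, smul_eq_mul, smul_eq_mul]
          exact congrArg (· * _) (h0 r).symm }
    refine theta_ext W.2 (χ.map (cc (k := k))) θ θ' (fun a => ?_) (b p)
    exact ((congrArg (cc (k := k)) (theta_d W.2 χ _ a)).trans (cc_dOp _ _)).trans (hl l a)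

end

end Groth.Agent.Lib.RatForms33
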