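import Groth.Agent.Lib.RatForms33.Arc
import Mathlib.RingTheory.MvPowerSeries.Substitution

/-!
# The leading values of a global form along a formal arc are regular
-/

set_option autoImplicit false
set_option linter.style.haveILetI false
universe u

open CategoryTheory CategoryTheory.Limits AlgebraicGeometry Opposite TopologicalSpace
open MvPowerSeries (coeff constantCoeff)

namespace Groth.Agent.Lib.RatForms33

open Groth.Agent.Lib Groth.Agent.Lib.REqForms33
open Groth.Agent.H34.SplitP1 (P1 U)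
open Groth.Agent.Lib.TensorMod.Basis (IsBasis)
open Groth.Agent.Lib.TensorMod.Dual (rs rf rs_rs)

noncomputable section

variable {k : Type u} [Field k] {n : ℕ}

theorem chi_ext {X : Scheme.{u}} {f : X ⟶ Spec (CommRingCat.of k)} {U : X.Opens} {R : Type u} [CommRing R]
    [Algebra k R] {χ χ' : Chi f U R} (h : ∀ a, χ.hom a = χ'.hom a) : χ = χ' := by
  cases χ; cases χ'
  simp only [Chi.mk.injEq]
  exact RingHom.ext h

section Scale

variable {R K : Type u} [CommRing R] [Algebra k R] [CommRing K] [Algebra k K] (φ : R →ₐ[k] K) (c : Fin n → R)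

/-- Rescaling followed by a change of coefficients. -/
def scale : MvPowerSeries (Fin n) R →ₐ[k] MvPowerSeries (Fin n) K :=
  { toRingHom := (MvPowerSeries.map (σ := Fin n) φ.toRingHom).comp (MvPowerSeries.rescale c)
    commutes' := fun x => by
      classical
      ext d
      show coeff d (MvPowerSeries.map φ.toRingHom (MvPowerSeries.rescale c (algebraMap k _ x))) = _
      rw [MvPowerSeries.coeff_map, MvPowerSeries.coeff_rescale, MvPowerSeries.algebraMap_apply,
        MvPowerSeries.algebraMap_apply, MvPowerSeries.coeff_C, MvPowerSeries.coeff_C]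
      by_cases hd : d = 0
      · simp [hd]
      · simp [hd] }

theorem coeff_scale (r : MvPowerSeries (Fin n) R) (d : Fin n →₀ ℕ) :
    coeff d (scale (k := k) φ c r) = φ ((d.prod fun s m => c s ^ m) * coeff d r) := by
  show coeff d (MvPowerSeries.map φ.toRingHom (MvPowerSeries.rescale c r)) = _
  rw [MvPowerSeries.coeff_map, MvPowerSeries.coeff_rescale]
  rfl

theorem dOp_scale (l : Fin n) (r : MvPowerSeries (Fin n) R) :
    dOp (k := k) l (scale φ c r) = scale φ c (MvPowerSeries.C (c l) * dOp (k := k) l r) := by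
  classical
  ext d
  show coeff d (MvPowerSeries.pderiv K l (scale φ c r)) = coeff d (scale φ c (MvPowerSeries.C (c l) * MvPowerSeries.pderiv R l r))
  rw [MvPowerSeries.coeff_pderiv, coeff_scale, coeff_scale, MvPowerSeries.coeff_C_mul, MvPowerSeries.coeff_pderiv,
    Finsupp.prod_add_index' (fun a => pow_zero (c a)) (fun a p q => pow_add (c a) p q)]
  rw [Finsupp.prod_single_index (h := fun s m => c s ^ m) (pow_zero _), pow_one]
  simp only [map_mul, map_add, map_natCast, map_one]
  ring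

end Scale

variable {X : Scheme.{u}} {f : X ⟶ Spec (CommRingCat.of k)} {g : P1 k ⟶ X}
  (hg : g ≫ f = CohB1.ProjSpace.toSpec 1 k) {e : ∀ a : Fin 2, Fin n → Γ(EOm f g, U k a)}
  (he : ∀ a, IsBasis (e a))

/-- Two derivations which agree on a ring agree on its localisation. -/
theorem deriv_ext_away {A A' K : Type*} [CommRing A] [CommRing A'] [Algebra A A'] (r : A) [IsLocalization.Away r A']
    [CommRing K] (σ : A' →+* K) (D D' : A' → K) (hD : ∀ a b, D (a * b) = σ a * D b + σ b * D a)
    (hD' : ∀ a b, D' (a * b) = σ a * D' b + σ b * D' a) (h : ∀ a, D (algebraMap A A' a) = D' (algebraMap A A' a))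
    (x : A') : D x = D' x := by
  obtain ⟨⟨y, s⟩, hs⟩ := IsLocalization.surj (Submonoid.powers r) x
  have hu : IsUnit (σ (algebraMap A A' s)) := (IsLocalization.map_units A' s).map σ
  have h1 := congrArg D hs
  have h2 := congrArg D' hs
  rw [hD, h, h] at h1
  rw [hD'] at h2
  refine hu.mul_left_cancel ?_
  linear_combination h1 - h2

theorem dlin_res [QuasiSeparated f] (a : Fin 2) (v : P1 k) (hv : v ∈ U k a) {W V : X.Opens} (hle : V ≤ W)
    (h : g v ∈ V) (l : Fin n) (r : Γ(X, W)) :
    dlin hg he a v hv V h l (rf hle r) = dlin hg he a v hv W (hle h) l r := by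
  have h1 : OmegaSh.dSect f V (rf hle r) = rs (Omega.sheaf f) hle (OmegaSh.dSect f W r) := by
    exact OmegaSh.dSect_map f hle r
  rw [dlin, h1, th_res]
  rfl

set_option maxHeartbeats 1000000 in
/-- Extending a lift to a basic open. -/
theorem exists_chi_basicOpen [Smooth f] [QuasiSeparated f] {V : X.affineOpens} {hηV : g ηP ∈ V.1}
    (hη : (ηP : P1 k) ∈ U k 0) (r : Γ(X, V.1)) (hηr : g ηP ∈ X.basicOpen r)
    (χ : Chi f V.1 (MvPowerSeries (Fin n) (P1 k).functionField))
    (hcc : ∀ r', cc (k := k) (χ.hom r') = (pt hg V.1 ηP hηV).hom r')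
    (hlin : ∀ l r', coeff (Finsupp.single l 1) (χ.hom r') = dlin hg he 0 ηP hη V.1 hηV l r') :
    ∃ χD : Chi f (X.basicOpen r) (MvPowerSeries (Fin n) (P1 k).functionField),
      χD.res (X.basicOpen_le r) = χ ∧ (∀ r', cc (k := k) (χD.hom r') = (pt hg (X.basicOpen r) ηP hηr).hom r') ∧
      ∀ l r', coeff (Finsupp.single l 1) (χD.hom r') = dlin hg he 0 ηP hη (X.basicOpen r) hηr l r' := by
  haveI hloc : IsLocalization.Away r Γ(X, X.basicOpen r) := V.2.isLocalization_basicOpen r
  have hDV : X.basicOpen r ≤ V.1 := X.basicOpen_le r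
  have hu : IsUnit (χ.hom r) := by
    rw [MvPowerSeries.isUnit_iff_constantCoeff]
    refine isUnit_iff_ne_zero.2 fun hz => ?_
    have hz' : (pt hg V.1 ηP hηV).hom r = 0 := (hcc r).symm.trans hz
    have hru : IsUnit (rf hDV r : Γ(X, X.basicOpen r)) := IsLocalization.Away.algebraMap_isUnit r
    exact (hru.map (pt hg (X.basicOpen r) ηP hηr).hom).ne_zero ((pt_res hg hDV ηP hηr r).trans hz')
  let χD : Chi f (X.basicOpen r) (MvPowerSeries (Fin n) (P1 k).functionField) :=
    ⟨IsLocalization.Away.lift (S := Γ(X, X.basicOpen r)) r hu, fun x => by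
      rw [← res_str f hDV]
      exact (IsLocalization.Away.lift_eq (S := Γ(X, X.basicOpen r)) r hu (str f V.1 x)).trans (χ.hom_str x)⟩
  have hr' : ∀ r', χD.hom (rf hDV r') = χ.hom r' := fun r' =>
    IsLocalization.Away.lift_eq (S := Γ(X, X.basicOpen r)) r hu r'
  have hccD : ∀ r', cc (k := k) (χD.hom r') = (pt hg (X.basicOpen r) ηP hηr).hom r' := by
    have := IsLocalization.ringHom_ext (Submonoid.powers r) (S := Γ(X, X.basicOpen r))
      (j := (cc (k := k)).toRingHom.comp χD.hom) (k := (pt hg (X.basicOpen r) ηP hηr).hom) (RingHom.ext fun r' =>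
        ((congrArg (cc (k := k)) (hr' r')).trans (hcc r')).trans (pt_res hg hDV ηP hηr r').symm)
    exact fun r' => congr($this r')
  refine ⟨χD, chi_ext hr', hccD, fun l => ?_⟩
  refine deriv_ext_away (A := Γ(X, V.1)) r (pt hg (X.basicOpen r) ηP hηr).hom _ _ (fun a' b' => ?_)
    (dlin_mul hg he 0 ηP hη (X.basicOpen r) hηr l) (fun r' => ?_)
  · simp only [← cc_dOp (k := k)]
    rw [map_mul, Derivation.leibniz, map_add, smul_eq_mul, smul_eq_mul, map_mul, map_mul, hccD, hccD]
  · exact ((congrArg (coeff (Finsupp.single l 1)) (hr' r')).trans (hlin l r')).trans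
      (dlin_res hg he 0 ηP hη hDV hηr l r').symm

variable {i : ℕ} {L : X.Modules} (S : Setup f i L) {j : ℕ}

/-- With degenerate derivations the constant terms of the values vanish. -/
theorem constantCoeff_ev_mem {R : Type u} [CommRing R] [IsLocalRing R] [Algebra k R] (V : X.affineOpens)
    (χv : Chi f V.1 (MvPowerSeries (Fin n) R)) (hi : 0 < i) (m : ℕ) (c : Fin n → R) (I : ℕ → Fin i → Fin n)
    (hcm : ∀ l, c l ∈ IsLocalRing.maximalIdeal R) (z : Γ(CohB1.tensorPow L (m + 1), V.1)) :
    coeff 0 (ev S V χv (m + 1)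
      (fun l' p => (MvPowerSeries.C (c (I l' p)) : MvPowerSeries (Fin n) R) • dOp (k := k) (I l' p)) z) ∈
        IsLocalRing.maximalIdeal R := by
  let jT : MvPowerSeries (Fin n) R →ₐ[k] IsLocalRing.ResidueField R :=
    (IsScalarTower.toAlgHom k R (IsLocalRing.ResidueField R)).comp (cc (k := k))
  have h := ev_map S V χv jT (m + 1)
    (fun l' p => (MvPowerSeries.C (c (I l' p)) : MvPowerSeries (Fin n) R) • dOp (k := k) (I l' p))
    (fun _ _ => 0) (fun l' p r => by
    show (0 : IsLocalRing.ResidueField R) = _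
    symm
    show IsLocalRing.residue R (constantCoeff (MvPowerSeries.C (c (I l' p)) * dOp (k := k) (I l' p) r)) = 0
    rw [map_mul, MvPowerSeries.constantCoeff_C, map_mul, (IsLocalRing.residue_eq_zero_iff _).2 (hcm _), zero_mul]) z
  rw [ev_eq_zero_of_derivation_zero S V _ hi] at h
  rw [MvPowerSeries.coeff_zero_eq_constantCoeff_apply]
  exact (IsLocalRing.residue_eq_zero_iff _).1 h.symm

set_option maxHeartbeats 1000000 in
/-- The leading values of a global section are regular, and vanish where the frame degenerates. -/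
theorem exists_coeff_eq [Smooth f] [qs : QuasiSeparated f] {W : X.affineOpens} (hW : g ηP ∈ W.1)
    (hη : (ηP : P1 k) ∈ U k 0) {χ : Chi f W.1 (MvPowerSeries (Fin n) (P1 k).functionField)}
    {b : Module.Basis (Fin n) Γ(X, W.1) Γ(Omega.sheaf f, W.1)}
    {N : Matrix (Fin n) (Fin n) (P1 k).functionField} (hgood : IsGood S.qs χ b N)
    (h0 : ∀ a, cc (k := k) (χ.hom a) = (pt hg W.1 ηP hW).hom a)
    (h1 : ∀ l a, coeff (Finsupp.single l 1) (χ.hom a) = dlin hg he 0 ηP hη W.1 hW l a)
    (m : ℕ) (hi : 0 < i) (s : Γ(CohB1.tensorPow L (m + 1), (⊤ : X.Opens)))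
    (hord : Ord S χ (m + 1) (rs _ le_top s) j) (v : P1 k) (a : Fin 2) (hv : v ∈ U k a) (c : Fin n → B v)
    (hth : ∀ (W' : X.Opens) (h : g v ∈ W') (l : Fin n) (y : Γ(Omega.sheaf f, W')),
      sp v (c l) * th hg he a ηP (η_mem hv) W' (η_mem (W := g ⁻¹ᵁ W') h) l y =
        th hg he 0 ηP hη W' (η_mem (W := g ⁻¹ᵁ W') h) l y)
    (I : ℕ → Fin i → Fin n) (d : Fin n →₀ ℕ) (hd : Finsupp.degree d = j) :
    ∃ x : B v, sp v x = coeff d (ev S W χ (m + 1) (dtup I) (rs _ le_top s)) ∧
      ((∀ l, c l ∈ IsLocalRing.maximalIdeal (B v)) → x ∈ IsLocalRing.maximalIdeal (B v)) := by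
  classical
  let K : Type u := (P1 k).functionField
  obtain ⟨V, -, hvV⟩ := Groth.Agent.Lib.Modules.AffineHom.exists_affine (show g v ∈ (⊤ : X.Opens) from trivial)
  have hηV : g ηP ∈ V.1 := η_mem (W := g ⁻¹ᵁ V.1) hvV
  letI : Algebra k Γ(X, V.1) := (str f V.1).toAlgebra
  haveI := formallySmooth_str (f := f) V
  let ψv : Γ(X, V.1) →ₐ[k] B v := { toRingHom := (pt hg V.1 v hvV).hom, commutes' := (pt hg V.1 v hvV).hom_str }
  obtain ⟨χ0, hc, hl, hk⟩ := exists_lift (n := n) ψv (fun l r => dlin hg he a v hv V.1 hvV l r)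
    (dlin_add hg he a v hv V.1 hvV) (dlin_mul hg he a v hv V.1 hvV) (dlin_str hg he a v hv V.1 hvV)
  let χv : Chi f V.1 (MvPowerSeries (Fin n) (B v)) :=
    ⟨χ0, fun x => (hk x).trans MvPowerSeries.algebraMap_apply.symm⟩
  let J : MvPowerSeries (Fin n) (B v) →ₐ[k] MvPowerSeries (Fin n) K := scale (k := k) (sp v) c
  let δB : ℕ → Fin i → Derivation k (MvPowerSeries (Fin n) (B v)) (MvPowerSeries (Fin n) (B v)) :=
    fun l' p => (MvPowerSeries.C (c (I l' p)) : MvPowerSeries (Fin n) (B v)) • dOp (k := k) (I l' p)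
  have hJ : ∀ l' p r, dtup (k := k) I l' p (J r) = J (δB l' p r) := fun l' p r => dOp_scale (sp v) c _ r
  have hcc : ∀ r', cc (k := k) ((χv.map J).hom r') = (pt hg V.1 ηP hηV).hom r' := fun r' => by
    show constantCoeff (scale (k := k) (sp v) c (χ0 r')) = _
    rw [← MvPowerSeries.coeff_zero_eq_constantCoeff_apply, coeff_scale]
    rw [Finsupp.prod_zero_index, one_mul, MvPowerSeries.coeff_zero_eq_constantCoeff_apply, hc]
    exact sp_pt hg V.1 v hvV r'
  have hlin : ∀ l r', coeff (Finsupp.single l 1) ((χv.map J).hom r') = dlin hg he 0 ηP hη V.1 hηV l r' := fun l r' => by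
    show coeff (Finsupp.single l 1) (scale (k := k) (sp v) c (χ0 r')) = _
    rw [coeff_scale, Finsupp.prod_single_index (h := fun s m => c s ^ m) (pow_zero _), pow_one, map_mul, hl]
    exact (congrArg (sp v (c l) * ·) (sp_th hg he a v hv V.1 hvV l _)).trans (hth V.1 hvV l _)
  obtain ⟨r, hrW, hηr⟩ := V.2.exists_basicOpen_le ⟨g ηP, hW⟩ hηV
  let D : X.affineOpens := ⟨X.basicOpen r, V.2.basicOpen r⟩
  have hDV : D.1 ≤ V.1 := X.basicOpen_le r
  obtain ⟨χD, hres, hccD, hlinD⟩ := exists_chi_basicOpen hg he hη r hηr (χv.map J) hcc hlin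
  have key := lead_eq_ev S hgood (χ' := χD.res hrW)
    (fun r' => ((hccD _).trans (pt_res hg hrW ηP hηr r')).trans (h0 r').symm)
    (fun l r' => ((hlinD l _).trans (dlin_res hg he 0 ηP hη hrW hηr l r')).trans (h1 l r').symm)
    (m + 1) _ j hord I
  have hev : ev S W (χD.res hrW) (m + 1) (dtup I) (rs _ le_top s) =
      J (ev S V χv (m + 1) δB (rs _ le_top s)) := by
    rw [ev_res S W D hrW, rs_rs, ← ev_map S V χv J (m + 1) δB (dtup I) hJ, ← hres, ev_res S V D hDV, rs_rs]
  refine ⟨(d.prod fun s m => c s ^ m) * coeff d (ev S V χv (m + 1) δB (rs _ le_top s)), ?_, fun hcm => ?_⟩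
  · have := mem_ordI.1 key d (hd ▸ Nat.lt_succ_self _)
    rw [map_sub, sub_eq_zero, hev] at this
    exact (coeff_scale (sp v) c _ d).symm.trans this
  · by_cases hd0 : d = 0
    · refine Ideal.mul_mem_left _ _ ?_
      subst hd0
      exact constantCoeff_ev_mem S V χv hi m c (fun l' p => I l' p) hcm (rs _ le_top s)
    · obtain ⟨l, hl'⟩ := Finsupp.ne_iff.1 hd0
      refine Ideal.mul_mem_right _ _ ?_
      rw [Finsupp.prod, ← Finset.mul_prod_erase _ _ (Finsupp.mem_support_iff.2 hl')]
      exact Ideal.mul_mem_right _ _ (Ideal.pow_mem_of_mem _ (hcm l) _ (Nat.pos_of_ne_zero hl'))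

end

end Groth.Agent.Lib.RatForms33
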