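import Groth.Agent.H34.SplitP1.Bundle
import Groth.Agent.H52.FDesc.FTDescent
import Groth.Agent.Lib.REqForms33.Eval

/-!
# The functionals of a framed rational curve
-/

set_option autoImplicit false
set_option linter.style.haveILetI false
universe u

open CategoryTheory CategoryTheory.Limits AlgebraicGeometry Opposite TopologicalSpace

namespace Groth.Agent.Lib.RatForms33

open Groth.Agent.Lib Groth.Agent.Lib.REqForms33
open Groth.Agent.H34.SplitP1 (P1 U U01 U01_le ψ φ data φ_bijective ψ_apply)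
open Groth.Agent.Lib.TensorMod.Basis (comb IsBasis)
open Groth.Agent.Lib.TensorMod.Dual (rs rf rs_rs rs_smul rf_rf)
open Groth.Agent.H52.FDesc.FTDescent (pullSec)

noncomputable section

variable {k : Type u} [Field k]

/-- The functions at a point of the line. -/
abbrev B (v : P1 k) : Type u := (P1 k).presheaf.stalk v

/-- The generic point of the line. -/
abbrev ηP : P1 k := genericPoint (P1 k)

theorem η_mem {W : (P1 k).Opens} {v : P1 k} (hv : v ∈ W) : (ηP : P1 k) ∈ W :=
  ((genericPoint_spec (P1 k)).mem_open_set_iff W.2).2 ⟨v, trivial, hv⟩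

instance algB (v : P1 k) : Algebra k (B v) :=
  (((P1 k).presheaf.germ ⊤ v trivial).hom.comp (str (CohB1.ProjSpace.toSpec 1 k) ⊤)).toAlgebra

theorem algebraMap_B (v : P1 k) (W : (P1 k).Opens) (hv : v ∈ W) (c : k) :
    algebraMap k (B v) c = (P1 k).presheaf.germ W v hv (str (CohB1.ProjSpace.toSpec 1 k) W c) := by
  rw [← res_str (CohB1.ProjSpace.toSpec 1 k) (le_top : W ≤ ⊤)]
  exact (TopCat.Presheaf.germ_res_apply (P1 k).presheaf (homOfLE le_top) _ hv _).symm

/-- From the functions at a point to the rational functions. -/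
def sp (v : P1 k) : B v →ₐ[k] B (ηP (k := k)) :=
  { toRingHom := ((P1 k).presheaf.stalkSpecializes ((genericPoint_spec (P1 k)).specializes trivial)).hom
    commutes' := fun c => TopCat.Presheaf.germ_stalkSpecializes_apply (P1 k).presheaf
      (show v ∈ (⊤ : (P1 k).Opens) from trivial) _ _ }

theorem sp_germ (v : P1 k) (W : (P1 k).Opens) (hv : v ∈ W) (r : Γ(P1 k, W)) :
    sp v ((P1 k).presheaf.germ W v hv r) = (P1 k).presheaf.germ W ηP (η_mem hv) r :=
  TopCat.Presheaf.germ_stalkSpecializes_apply (P1 k).presheaf hv _ _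

variable {X : Scheme.{u}} {f : X ⟶ Spec (CommRingCat.of k)} {g : P1 k ⟶ X}
  (hg : g ≫ f = CohB1.ProjSpace.toSpec 1 k)

include hg in
theorem app_str (U : X.Opens) (c : k) :
    g.app U (str f U c) = str (CohB1.ProjSpace.toSpec 1 k) (g ⁻¹ᵁ U) c := by
  have h : f.appLE ⊤ U (le_pre f U) ≫ g.app U =
      (CohB1.ProjSpace.toSpec 1 k).appLE ⊤ (g ⁻¹ᵁ U) (le_pre _ _) := by
    rw [Scheme.Hom.app_eq_appLE, Scheme.Hom.appLE_comp_appLE]
    simp only [hg]
  exact congr($h _)

/-- The restriction of the curve's point to the functions of an open. -/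
def pt (U : X.Opens) (v : P1 k) (h : g v ∈ U) : Chi f U (B v) :=
  ⟨((P1 k).presheaf.germ (g ⁻¹ᵁ U) v h).hom.comp (g.app U).hom, fun c => by
    show (P1 k).presheaf.germ _ v h (g.app U (str f U c)) = _
    rw [app_str hg]
    exact (algebraMap_B v (g ⁻¹ᵁ U) h c).symm⟩

theorem sp_pt (U : X.Opens) (v : P1 k) (h : g v ∈ U) (r : Γ(X, U)) :
    sp v ((pt hg U v h).hom r) = (pt hg U ηP (η_mem (W := g ⁻¹ᵁ U) h)).hom r :=
  sp_germ v _ h _

theorem pt_res {U V : X.Opens} (hle : V ≤ U) (v : P1 k) (h : g v ∈ V) (r : Γ(X, U)) :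
    (pt hg V v h).hom (rf hle r) = (pt hg U v (hle h)).hom r := by
  show (P1 k).presheaf.germ _ v h (g.app V (X.presheaf.map (homOfLE hle).op r)) = _
  rw [show g.app V (X.presheaf.map (homOfLE hle).op r) =
    (P1 k).presheaf.map (homOfLE (g.preimage_mono hle)).op (g.app U r) from congr($(g.naturality (homOfLE hle).op) r)]
  exact TopCat.Presheaf.germ_res_apply (P1 k).presheaf _ _ h _

variable (f g) in
/-- The inverse image of the differentials. -/
abbrev EOm : (P1 k).Modules := (Scheme.Modules.pullback g).obj (Omega.sheaf f)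

/-- The inverse image of a differential. -/
def pull {W : X.Opens} (y : Γ(Omega.sheaf f, W)) : Γ(EOm f g, g ⁻¹ᵁ W) := pullSec g (Omega.sheaf f) y

theorem pull_add {W : X.Opens} (y y' : Γ(Omega.sheaf f, W)) :
    pull (g := g) (y + y') = pull (g := g) y + pull (g := g) y' :=
  map_add (((Scheme.Modules.pullbackPushforwardAdjunction g).unit.app (Omega.sheaf f)).app W).hom y y'

theorem pull_smul {W : X.Opens} (r : Γ(X, W)) (y : Γ(Omega.sheaf f, W)) :
    pull (g := g) (r • y) = g.app W r • pull (g := g) y :=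
  Scheme.Modules.Hom.app_smul ((Scheme.Modules.pullbackPushforwardAdjunction g).unit.app (Omega.sheaf f)) r y

theorem rs_pull {W V : X.Opens} (hle : V ≤ W) (y : Γ(Omega.sheaf f, W)) :
    rs (EOm f g) (g.preimage_mono hle) (pull (g := g) y) = pull (g := g) (rs (Omega.sheaf f) hle y) :=
  (Groth.Agent.Lib.TensorMod.HomGlue.rs_app
    ((Scheme.Modules.pullbackPushforwardAdjunction g).unit.app (Omega.sheaf f)) hle y)

variable {n : ℕ} {e : ∀ a : Fin 2, Fin n → Γ(EOm f g, U k a)} (he : ∀ a, IsBasis (e a))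

/-- The coordinates of the inverse image of a differential. -/
def crd (a : Fin 2) {W : X.Opens} (y : Γ(Omega.sheaf f, W)) : Fin n → Γ(P1 k, g ⁻¹ᵁ W ⊓ U k a) :=
  ((he a _ inf_le_right).2 (rs (EOm f g) inf_le_left (pull (g := g) y))).choose

theorem crd_spec (a : Fin 2) {W : X.Opens} (y : Γ(Omega.sheaf f, W)) :
    comb (e a) inf_le_right (crd he a y) = rs (EOm f g) (inf_le_left : g ⁻¹ᵁ W ⊓ U k a ≤ _) (pull (g := g) y) :=
  ((he a _ inf_le_right).2 (rs (EOm f g) inf_le_left (pull (g := g) y))).choose_spec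

theorem crd_eq (a : Fin 2) {W : X.Opens} (y : Γ(Omega.sheaf f, W)) (c : Fin n → Γ(P1 k, g ⁻¹ᵁ W ⊓ U k a))
    (h : comb (e a) inf_le_right c = rs (EOm f g) (inf_le_left : g ⁻¹ᵁ W ⊓ U k a ≤ _) (pull (g := g) y)) :
    crd he a y = c :=
  (he a _ inf_le_right).1 ((crd_spec he a y).trans h.symm)

theorem crd_add (a : Fin 2) {W : X.Opens} (y y' : Γ(Omega.sheaf f, W)) :
    crd he a (y + y') = crd he a y + crd he a y' := by
  refine crd_eq he a _ _ ?_
  rw [pull_add, show rs (EOm f g) (inf_le_left : g ⁻¹ᵁ W ⊓ U k a ≤ _) (pull (g := g) y + pull (g := g) y') =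
    rs (EOm f g) inf_le_left (pull (g := g) y) + rs (EOm f g) inf_le_left (pull (g := g) y') from map_add _ _ _,
    ← crd_spec he a y, ← crd_spec he a y']
  simp [comb, add_smul, Finset.sum_add_distrib]

theorem crd_smul (a : Fin 2) {W : X.Opens} (r : Γ(X, W)) (y : Γ(Omega.sheaf f, W)) :
    crd he a (r • y) = rf (inf_le_left : g ⁻¹ᵁ W ⊓ U k a ≤ _) (g.app W r) • crd he a y := by
  refine crd_eq he a _ _ ?_
  rw [pull_smul, rs_smul, ← crd_spec he a y]
  simp [comb, Finset.smul_sum, smul_smul]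

theorem crd_res (a : Fin 2) {W V : X.Opens} (hle : V ≤ W) (y : Γ(Omega.sheaf f, W)) (l : Fin n) :
    crd he a (rs (Omega.sheaf f) hle y) l = rf (inf_le_inf_right _ (g.preimage_mono hle)) (crd he a y l) := by
  refine congrFun (crd_eq he a _ (fun l => rf (inf_le_inf_right _ (g.preimage_mono hle)) (crd he a y l)) ?_) l
  rw [← Groth.Agent.Lib.TensorMod.Basis.rs_comb (e a) inf_le_right, crd_spec, ← rs_pull, rs_rs, rs_rs]

/-- The functionals of the frame of a chart. -/
def th (a : Fin 2) (v : P1 k) (hv : v ∈ U k a) (W : X.Opens) (h : g v ∈ W) (l : Fin n) :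
    Γ(Omega.sheaf f, W) →ₛₗ[(pt hg W v h).hom] B v where
  toFun y := (P1 k).presheaf.germ (g ⁻¹ᵁ W ⊓ U k a) v ⟨h, hv⟩ (crd he a y l)
  map_add' y y' := by rw [crd_add, Pi.add_apply, map_add]
  map_smul' r y := by
    rw [crd_smul, Pi.smul_apply, smul_eq_mul, map_mul, smul_eq_mul]
    exact congrArg (· * _) (TopCat.Presheaf.germ_res_apply (P1 k).presheaf (homOfLE inf_le_left) v _ _)

theorem th_res (a : Fin 2) (v : P1 k) (hv : v ∈ U k a) {W V : X.Opens} (hle : V ≤ W) (h : g v ∈ V) (l : Fin n)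
    (y : Γ(Omega.sheaf f, W)) :
    th hg he a v hv V h l (rs (Omega.sheaf f) hle y) = th hg he a v hv W (hle h) l y := by
  show (P1 k).presheaf.germ _ v _ (crd he a (rs _ hle y) l) = _
  rw [crd_res]
  exact TopCat.Presheaf.germ_res_apply (P1 k).presheaf _ v _ _

theorem sp_th (a : Fin 2) (v : P1 k) (hv : v ∈ U k a) (W : X.Opens) (h : g v ∈ W) (l : Fin n)
    (y : Γ(Omega.sheaf f, W)) :
    sp v (th hg he a v hv W h l y) = th hg he a ηP (η_mem hv) W (η_mem (W := g ⁻¹ᵁ W) h) l y :=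
  sp_germ v _ _ _

section

variable [QuasiSeparated f]

/-- The derivation of a functional. -/
def dlin (a : Fin 2) (v : P1 k) (hv : v ∈ U k a) (W : X.Opens) (h : g v ∈ W) (l : Fin n) (b : Γ(X, W)) : B v :=
  th hg he a v hv W h l (OmegaSh.dSect f W b)

theorem dlin_add (a : Fin 2) (v : P1 k) (hv : v ∈ U k a) (W : X.Opens) (h : g v ∈ W) (l : Fin n) (b b' : Γ(X, W)) :
    dlin hg he a v hv W h l (b + b') = dlin hg he a v hv W h l b + dlin hg he a v hv W h l b' := by
  rw [dlin, OmegaSh.dSect_add, map_add]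
  rfl

theorem dlin_mul (a : Fin 2) (v : P1 k) (hv : v ∈ U k a) (W : X.Opens) (h : g v ∈ W) (l : Fin n) (b b' : Γ(X, W)) :
    dlin hg he a v hv W h l (b * b') = (pt hg W v h).hom b * dlin hg he a v hv W h l b' +
      (pt hg W v h).hom b' * dlin hg he a v hv W h l b := by
  rw [dlin, OmegaSh.dSect_mul, map_add, LinearMap.map_smulₛₗ, LinearMap.map_smulₛₗ]
  rfl

theorem dlin_str (a : Fin 2) (v : P1 k) (hv : v ∈ U k a) (W : X.Opens) (h : g v ∈ W) (l : Fin n) (c : k) :
    dlin hg he a v hv W h l (str f W c) = 0 := by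
  rw [dlin, show OmegaSh.dSect f W (str f W c) = 0 from OmAff.dSect_appLE f ⊤ W (le_pre f W) _, map_zero]

end

variable {d : Fin n → ℤ}
  (htr : ∀ j, rs (EOm f g) (U01_le k 1) (e 1 j) = (data k).up (d j) • rs (EOm f g) (U01_le k 0) (e 0 j))

include htr in
/-- The two frames at the generic point. -/
theorem th_transition (W : X.Opens) (h : g ηP ∈ W) (h0 : (ηP : P1 k) ∈ U k 0) (h1 : (ηP : P1 k) ∈ U k 1)
    (l : Fin n) (y : Γ(Omega.sheaf f, W)) :
    th hg he 0 ηP h0 W h l y = (P1 k).presheaf.germ (U01 k) ηP ⟨h0, h1⟩ ((data k).up (d l)) *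
      th hg he 1 ηP h1 W h l y := by
  let V : (P1 k).Opens := g ⁻¹ᵁ W ⊓ U01 k
  have hV0 : V ≤ g ⁻¹ᵁ W ⊓ U k 0 := inf_le_inf_left _ (U01_le k 0)
  have hV1 : V ≤ g ⁻¹ᵁ W ⊓ U k 1 := inf_le_inf_left _ (U01_le k 1)
  have a0 := congrArg (rs (EOm f g) hV0) (crd_spec he 0 y)
  have a1 := congrArg (rs (EOm f g) hV1) (crd_spec he 1 y)
  rw [Groth.Agent.Lib.TensorMod.Basis.rs_comb, rs_rs] at a0 a1
  have hV : V ≤ U01 k := inf_le_right
  have key : comb (e 0) (hV0.trans inf_le_right) (fun l => rf hV ((data k).up (d l)) * rf hV1 (crd he 1 y l)) =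
      comb (e 1) (hV1.trans inf_le_right) fun l => rf hV1 (crd he 1 y l) := by
    simp only [comb]
    refine Finset.sum_congr rfl fun j _ => ?_
    have := congrArg (rs (EOm f g) hV) (htr j)
    rw [rs_smul, rs_rs, rs_rs] at this
    rw [mul_comm, mul_smul, ← this]
  have := congrFun ((he 0 V (hV0.trans inf_le_right)).1 ((key.trans (a1.trans a0.symm)))) l
  have hg0 := congrArg ((P1 k).presheaf.germ V ηP ⟨h, h0, h1⟩) this
  rw [map_mul] at hg0
  have e0 : ∀ {W' W'' : (P1 k).Opens} (hle : W'' ≤ W') (hm : ηP ∈ W'') (r : Γ(P1 k, W')),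
      (P1 k).presheaf.germ W'' ηP hm (rf hle r) = (P1 k).presheaf.germ W' ηP (hle hm) r :=
    fun hle hm r => TopCat.Presheaf.germ_res_apply (P1 k).presheaf (homOfLE hle) _ hm r
  exact (((congrArg₂ (· * ·) (e0 hV _ _) (e0 hV1 _ _)).symm.trans hg0).trans (e0 hV0 _ _)).symm

end

end Groth.Agent.Lib.RatForms33
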