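import Groth.Agent.Lib.RatForms33.Taylor

/-!
# No pluricanonical forms on a variety with a free rational curve
-/

set_option autoImplicit false
set_option linter.style.haveILetI false
universe u

open CategoryTheory CategoryTheory.Limits AlgebraicGeometry Opposite TopologicalSpace
open MvPowerSeries (coeff constantCoeff)
open scoped TensorProduct

namespace Groth.Agent.Lib.RatForms33

open Groth.Agent.Lib Groth.Agent.Lib.REqForms33 Groth.Agent.Lib.Modules
open Groth.Agent.H34.SplitP1 (P1 U U01 U01_le φ ψ data φ_bijective ψ_apply stdBasis)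
open Groth.Agent.Lib.TensorMod.Basis (comb IsBasis rs_comb)
open Groth.Agent.Lib.TensorMod.Dual (rs rf rs_rs rs_smul rs_self)
open Groth.Agent.Lib.Modules.AffineHom (exists_affine)

noncomputable section

variable {k : Type u} [Field k] {X : Scheme.{u}} {f : X ⟶ Spec (CommRingCat.of k)} {g : P1 k ⟶ X}
  (hg : g ≫ f = CohB1.ProjSpace.toSpec 1 k) {n : ℕ} {e : ∀ a : Fin 2, Fin n → Γ(EOm f g, U k a)}
  (he : ∀ a, IsBasis (e a))

/-- Regular values on the generators give regular coordinates. -/
theorem coords_mem [(Omega.sheaf f).IsQuasicoherent] (a : Fin 2) (v : P1 k) (hv : v ∈ U k a) {W : X.Opens}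
    (hW : IsAffineOpen W) (h : g v ∈ W) (c : Fin n → B (ηP (k := k))) (J : Ideal (B v))
    (hc : ∀ y, ∃ r ∈ J, sp v r = ∑ l, c l * sp v (th hg he a v hv W h l y)) (p : Fin n) :
    ∃ r ∈ J, sp v r = c p := by
  classical
  let P : ↑((EOm f g).presheaf.stalk v) → Prop := fun z =>
    ∃ (V : (P1 k).Opens) (hvV : v ∈ V) (hVa : V ≤ U k a) (q : Fin n → Γ(P1 k, V)),
      (EOm f g).presheaf.germ V v hvV (comb (e a) hVa q) = z ∧ ∃ r ∈ J, sp v r = ∑ l, c l * sp v ((P1 k).presheaf.germ V v hvV (q l))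
  have germR : ∀ {V V' : (P1 k).Opens} (hle : V' ≤ V) (hm : v ∈ V') (r : Γ(P1 k, V)),
      (P1 k).presheaf.germ V' v hm (rf hle r) = (P1 k).presheaf.germ V v (hle hm) r :=
    fun hle hm r => TopCat.Presheaf.germ_res_apply (P1 k).presheaf (homOfLE hle) _ hm r
  have germM : ∀ {V V' : (P1 k).Opens} (hle : V' ≤ V) (hm : v ∈ V') (r : Γ((EOm f g), V)),
      (EOm f g).presheaf.germ V' v hm (rs (EOm f g) hle r) = (EOm f g).presheaf.germ V v (hle hm) r :=
    fun hle hm r => TopCat.Presheaf.germ_res_apply (EOm f g).presheaf (homOfLE hle) _ hm r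
  have hP : ∀ z, P z := by
    intro z
    have hz : z ∈ Submodule.span (B v) (Set.range fun y : Γ(Omega.sheaf f, W) =>
        (EOm f g).presheaf.germ (g ⁻¹ᵁ W) v h (pull (g := g) y)) := by
      rw [span_germ_pull hW v h]; trivial
    induction hz using Submodule.span_induction with
    | mem z hz =>
      obtain ⟨y, rfl⟩ := hz
      refine ⟨g ⁻¹ᵁ W ⊓ U k a, ⟨h, hv⟩, inf_le_right, crd he a y, ?_, hc y⟩
      rw [crd_spec]
      exact germM _ _ _
    | zero => exact ⟨U k a, hv, le_rfl, 0, by simp [comb], 0, J.zero_mem, by simp⟩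
    | add z z' _ _ ih ih' =>
      obtain ⟨V, hvV, hVa, q, rfl, hq⟩ := ih
      obtain ⟨V', hvV', hVa', q', rfl, hq'⟩ := ih'
      refine ⟨V ⊓ V', ⟨hvV, hvV'⟩, inf_le_left.trans hVa,
        fun l => rf inf_le_left (q l) + rf inf_le_right (q' l), ?_, ?_⟩
      · rw [show comb (e a) (inf_le_left.trans hVa) (fun l => rf inf_le_left (q l) + rf inf_le_right (q' l)) =
          rs (EOm f g) (inf_le_left : V ⊓ V' ≤ V) (comb (e a) hVa q) + rs (EOm f g) inf_le_right (comb (e a) hVa' q') by
            rw [rs_comb, rs_comb]; simp [comb, add_smul, Finset.sum_add_distrib]]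
        exact (map_add _ _ _).trans (congrArg₂ (· + ·) (germM _ _ _) (germM _ _ _))
      · obtain ⟨r1, hr1, e1⟩ := hq
        obtain ⟨r2, hr2, e2⟩ := hq'
        refine ⟨r1 + r2, J.add_mem hr1 hr2, ?_⟩
        rw [map_add, e1, e2, ← Finset.sum_add_distrib]
        refine Finset.sum_congr rfl fun l _ => ?_
        rw [← mul_add, ← map_add]
        refine congrArg (c l * sp v ·) (Eq.symm ?_)
        exact (map_add _ _ _).trans (congrArg₂ (· + ·) (germR _ _ _) (germR _ _ _))
    | smul r z _ ih =>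
      obtain ⟨V, hvV, hVa, q, rfl, hq⟩ := ih
      obtain ⟨V', hvV', r', rfl⟩ := (P1 k).presheaf.exists_germ_eq r
      refine ⟨V' ⊓ V, ⟨hvV', hvV⟩, inf_le_right.trans hVa, fun l => rf inf_le_left r' * rf inf_le_right (q l),
        ?_, ?_⟩
      · rw [show comb (e a) (inf_le_right.trans hVa) (fun l => rf inf_le_left r' * rf inf_le_right (q l)) =
          rf (inf_le_left : V' ⊓ V ≤ V') r' • rs (EOm f g) inf_le_right (comb (e a) hVa q) by
            rw [rs_comb]; simp [comb, Finset.smul_sum, smul_smul]]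
        erw [StalkModule.germ_smul]
        exact congrArg₂ (· • ·) (germR _ _ _) (germM _ _ _)
      · obtain ⟨r1, hr1, e1⟩ := hq
        refine ⟨(P1 k).presheaf.germ V' v hvV' r' * r1, J.mul_mem_left _ hr1, ?_⟩
        rw [map_mul, e1, Finset.mul_sum]
        refine Finset.sum_congr rfl fun l _ => ?_
        rw [mul_left_comm, ← map_mul]
        refine congrArg (c l * sp v ·) (Eq.symm ?_)
        exact (map_mul _ _ _).trans (congrArg₂ (· * ·) (germR _ _ _) (germR _ _ _))
  obtain ⟨V, hvV, hVa, q, hq, r, hr, hsum⟩ := hP ((EOm f g).presheaf.germ (U k a) v hv (e a p))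
  obtain ⟨V', hvV', i, j, hij⟩ := TopCat.Presheaf.germ_eq (EOm f g).presheaf v hvV hv _ _ hq
  have hij' : rs (EOm f g) i.le (comb (e a) hVa q) = rs (EOm f g) j.le (e a p) := hij
  have hcoord : (fun l => rf i.le (q l)) = fun l => if l = p then 1 else 0 :=
    (he a V' (i.le.trans hVa)).1 (by
      rw [← rs_comb (e a) hVa i.le, hij']
      simp [comb, ite_smul])
  refine ⟨r, hr, hsum.trans ?_⟩
  refine (Finset.sum_congr rfl fun l _ => congrArg (fun z => c l * sp v z)
    ((germR i.le hvV' (q l)).symm.trans (congrArg ((P1 k).presheaf.germ V' v hvV') (congrFun hcoord l)))).trans ?_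
  simp [apply_ite, mul_ite]

theorem sp_injective (v : P1 k) : Function.Injective (sp v) :=
  IsFractionRing.injective ((P1 k).presheaf.stalk v) (P1 k).functionField

theorem coeff_mul_of_vanish {R : Type u} [CommRing R] {N : ℕ} (hN : N ≠ 0) (A B' : PowerSeries R)
    (hA : ∀ j, j ≠ 0 → j < N → PowerSeries.coeff j A = 0) :
    PowerSeries.coeff N (A * B') = PowerSeries.constantCoeff A * PowerSeries.coeff N B' +
      PowerSeries.constantCoeff B' * PowerSeries.coeff N A := by
  classical
  rw [PowerSeries.coeff_mul, Finset.sum_eq_add (0, N) (N, 0)]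
  · simp only [PowerSeries.coeff_zero_eq_constantCoeff]
    ring
  · simp [hN.symm]
  · rintro ⟨p, q⟩ hpq ⟨h1, h2⟩
    have hsum : p + q = N := Finset.HasAntidiagonal.mem_antidiagonal.1 hpq
    have hp0 : p ≠ 0 := fun h => h1 (by subst h; simp at hsum; simp [hsum])
    have hpN : p < N := by
      rcases Nat.lt_or_ge p N with h | h
      · exact h
      · exact absurd (by simp [show p = N by omega, show q = 0 by omega]) h2
    rw [hA p hp0 hpN, zero_mul]
  · simp
  · simp

include hg in
/-- A curve all whose rational functions are constant is constant. -/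
theorem range_subset_of_const (hc : ∀ (W : X.affineOpens) (h : g ηP ∈ W.1) (a : Γ(X, W.1)),
    (pt hg W.1 ηP h).hom a ∈ (algebraMap k (B (ηP (k := k)))).range) :
    Set.range g.base ⊆ {g ηP} := by
  rintro _ ⟨v, rfl⟩
  by_contra hne
  obtain ⟨V, -, hvV⟩ := exists_affine (show g v ∈ (⊤ : X.Opens) from trivial)
  have hηV : g ηP ∈ V.1 := η_mem (W := g ⁻¹ᵁ V.1) hvV
  have hspec : g ηP ⤳ g v := ((genericPoint_spec (P1 k)).specializes trivial).map g.continuous
  have hns : ¬ g v ⤳ g ηP := fun h => hne (h.antisymm hspec).eq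
  obtain ⟨O, hO, hηO, hvO⟩ := not_specializes_iff_exists_open.1 hns
  obtain ⟨r, hrO, hηr⟩ := V.2.exists_basicOpen_le (V := ⟨O, hO⟩) ⟨g ηP, hηO⟩ hηV
  have hvr : g v ∉ X.basicOpen r := fun h => hvO (hrO h)
  have hne0 : ∀ r', g ηP ∈ X.basicOpen r' → (pt hg V.1 ηP hηV).hom r' ≠ 0 := fun r' hr' h0 => by
    haveI : IsLocalization.Away r' Γ(X, X.basicOpen r') := V.2.isLocalization_basicOpen r'
    have hru : IsUnit (rf (X.basicOpen_le r') r' : Γ(X, X.basicOpen r')) := IsLocalization.Away.algebraMap_isUnit r'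
    exact (hru.map (pt hg (X.basicOpen r') ηP hr').hom).ne_zero ((pt_res hg (X.basicOpen_le r') ηP hr' r').trans h0)
  obtain ⟨c, hcr⟩ := hc V hηV r
  have hzero : (pt hg V.1 ηP hηV).hom (r - str f V.1 c) = 0 := by
    rw [map_sub, (pt hg V.1 ηP hηV).hom_str, hcr, sub_self]
  have hr' : g v ∉ X.basicOpen (r - str f V.1 c) := fun h =>
    hne0 _ (hspec.mem_open (X.basicOpen _).2 h) hzero
  rw [X.mem_basicOpen _ _ hvV] at hvr hr'
  have hcz : c = 0 := by
    by_contra hc0
    have hu : IsUnit (X.presheaf.germ V.1 (g v) hvV (str f V.1 c)) :=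
      ((isUnit_iff_ne_zero.2 hc0).map (str f V.1)).map _
    rw [map_sub] at hr'
    have hm := Ideal.sub_mem (IsLocalRing.maximalIdeal (X.presheaf.stalk (g v)))
      (show X.presheaf.germ V.1 (g v) hvV r ∈ IsLocalRing.maximalIdeal _ from hvr)
      (show X.presheaf.germ V.1 (g v) hvV r - X.presheaf.germ V.1 (g v) hvV (str f V.1 c) ∈
        IsLocalRing.maximalIdeal _ from hr')
    rw [sub_sub_cancel] at hm
    exact hm hu
  exact hne0 r hηr (by rw [← hcr, hcz, map_zero])

variable {d : Fin n → ℤ}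
  (htr : ∀ j, rs (EOm f g) (U01_le k 1) (e 1 j) = (data k).up (d j) • rs (EOm f g) (U01_le k 0) (e 0 j))

set_option maxHeartbeats 800000 in
include hg he htr in
/-- A nonconstant curve has a negative splitting degree unless a positive one. -/
theorem exists_ne_zero_degree [Smooth f] [qs : QuasiSeparated f] [(Omega.sheaf f).IsQuasicoherent]
    {W₀ : X.affineOpens} (hW₀ : g ηP ∈ W₀.1) {χ : Chi f W₀.1 (MvPowerSeries (Fin n) (P1 k).functionField)}
    {b : Module.Basis (Fin n) Γ(X, W₀.1) Γ(Omega.sheaf f, W₀.1)}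
    {M : Matrix (Fin n) (Fin n) (P1 k).functionField} (hgood : IsGood qs χ b M)
    (h0 : ∀ a, cc (k := k) (χ.hom a) = (pt hg W₀.1 ηP hW₀).hom a)
    (h1 : ∀ l a, coeff (Finsupp.single l 1) (χ.hom a) = dlin hg he 0 ηP (η_mem_U 0) W₀.1 hW₀ l a)
    (hnc : ¬ ∃ x : X, Set.range g.base ⊆ {x}) : ∃ l, d l ≠ 0 := by
  classical
  by_contra hd
  push Not at hd
  refine hnc ⟨g ηP, range_subset_of_const hg fun W hW a => mem_range_of_taylorK _ ?_⟩
  suffices H : ∀ (N : ℕ), N ≠ 0 → ∀ (W : X.affineOpens) (h : g ηP ∈ W.1) (a : Γ(X, W.1)),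
      PowerSeries.coeff N (taylorK ((pt hg W.1 ηP h).hom a)) = 0 by
    ext N
    rw [PowerSeries.coeff_C]
    split_ifs with hN
    · subst hN
      rw [PowerSeries.coeff_zero_eq_constantCoeff]
      exact constantCoeff_taylor 0 ηP _ _
    · exact H N hN W hW a
  intro N
  induction N using Nat.strong_induction_on with
  | _ N ih =>
  intro hN
  let δ : ∀ (W : X.affineOpens) (h : g ηP ∈ W.1), Γ(X, W.1) → B (ηP (k := k)) := fun W h a =>
    PowerSeries.coeff N (taylorK ((pt hg W.1 ηP h).hom a))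
  have hcst : ∀ y : B (ηP (k := k)), PowerSeries.constantCoeff (taylorK y) = y := constantCoeff_taylor 0 ηP _
  have hδmul : ∀ (W : X.affineOpens) (h : g ηP ∈ W.1) (a a' : Γ(X, W.1)),
      δ W h (a * a') = (pt hg W.1 ηP h).hom a * δ W h a' + (pt hg W.1 ηP h).hom a' * δ W h a := fun W h a a' => by
    simp only [δ, map_mul]
    rw [coeff_mul_of_vanish hN _ _ (fun j hj hjN => ih j hjN hj W h a), hcst, hcst]
  have hδres : ∀ (W W' : X.affineOpens) (hle : W'.1 ≤ W.1) (h : g ηP ∈ W'.1) (a : Γ(X, W.1)),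
      δ W' h (rf hle a) = δ W (hle h) a := fun W W' hle h a => by
    simp only [δ, pt_res hg hle ηP h a]
  letI : Algebra k Γ(X, W₀.1) := (str f W₀.1).toAlgebra
  obtain ⟨x, hx⟩ := hgood.framed.span (P1 k).functionField (δ W₀ hW₀)
    (fun a a' => by simp [δ])
    (fun a a' => by
      rw [show constantCoeff (χ.hom a) = _ from h0 a, show constantCoeff (χ.hom a') = _ from h0 a']
      exact hδmul W₀ hW₀ a a')
    (fun c => by
      show PowerSeries.coeff N (taylorK ((pt hg W₀.1 ηP hW₀).hom (str f W₀.1 c))) = 0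
      rw [(pt hg W₀.1 ηP hW₀).hom_str, taylorK_C, PowerSeries.coeff_C, if_neg hN])
  have hx' : ∀ (V : X.affineOpens) (h : g ηP ∈ V.1) (a : Γ(X, V.1)),
      δ V h a = ∑ l, dlin hg he 0 ηP (η_mem_U 0) V.1 h l a * x l := by
    intro V h a
    obtain ⟨r, hrV, hηr⟩ := W₀.2.exists_basicOpen_le ⟨g ηP, h⟩ hW₀
    let D : X.affineOpens := ⟨X.basicOpen r, W₀.2.basicOpen r⟩
    haveI : IsLocalization.Away r Γ(X, D.1) := W₀.2.isLocalization_basicOpen r
    have hD : ∀ a', δ D hηr a' = ∑ l, dlin hg he 0 ηP (η_mem_U 0) D.1 hηr l a' * x l :=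
      deriv_ext_away (A := Γ(X, W₀.1)) r (pt hg D.1 ηP hηr).hom _ _ (hδmul D hηr)
        (fun a' b' => by
          simp only [dlin_mul, Finset.mul_sum, ← Finset.sum_add_distrib]
          exact Finset.sum_congr rfl fun l _ => by ring)
        (fun a' => by
          refine ((hδres W₀ D (X.basicOpen_le r) hηr a').trans (hx a')).trans ?_
          exact Finset.sum_congr rfl fun l _ => congrArg (· * x l)
            ((h1 l a').trans (dlin_res hg he 0 ηP (η_mem_U 0) (X.basicOpen_le r) hηr l a').symm))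
    rw [← hδres V D hrV hηr a, hD]
    exact Finset.sum_congr rfl fun l _ => congrArg (· * x l) (dlin_res hg he 0 ηP (η_mem_U 0) hrV hηr l a)
  have hx0 : ∀ p, x p = 0 := by
    intro p
    refine eq_zero_of_regular _ fun a v hv => ?_
    obtain ⟨V, -, hvV⟩ := exists_affine (show g v ∈ (⊤ : X.Opens) from trivial)
    have hηV : g ηP ∈ V.1 := η_mem (W := g ⁻¹ᵁ V.1) hvV
    let σ : Γ(X, V.1) →+* B v := (pt hg V.1 v hvV).hom
    let δv : Γ(X, V.1) → B v := fun a' => PowerSeries.coeff N (taylor a v hv (σ a'))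
    have hsp : ∀ j a', sp v (PowerSeries.coeff j (taylor a v hv (σ a'))) =
        PowerSeries.coeff j (taylorK ((pt hg V.1 ηP hηV).hom a')) := fun j a' => by
      rw [← sp_pt hg V.1 v hvV, ← map_taylor a v hv, PowerSeries.coeff_map]
      rfl
    obtain ⟨θ, hθ⟩ := exists_semilinear V.2 σ δv (fun a' b' => by simp [δv]) (fun a' b' => by
        simp only [δv, map_mul, smul_eq_mul]
        rw [coeff_mul_of_vanish hN _ _ (fun j hj hjN => sp_injective v (by rw [hsp, ih j hjN hj V hηV a', map_zero])),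
          constantCoeff_taylor, constantCoeff_taylor])
      (fun c => by
        refine sp_injective v ?_
        rw [hsp, map_zero, (pt hg V.1 ηP hηV).hom_str, taylorK_C, PowerSeries.coeff_C, if_neg hN])
    let J : Ideal (B v) := if a = 1 ∧ v ∉ U k 0 then IsLocalRing.maximalIdeal (B v) else ⊤
    have hθJ : ∀ y, θ y ∈ J := by
      intro y
      by_cases hcase : a = 1 ∧ v ∉ U k 0
      · obtain ⟨rfl, hv0⟩ := hcase
        simp only [J, if_pos (And.intro rfl hv0)]
        rw [← IsLocalRing.residue_eq_zero_iff]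
        let θ' : Γ(Omega.sheaf f, V.1) →ₛₗ[((pt hg V.1 v hvV).map
            (IsScalarTower.toAlgHom k (B v) (IsLocalRing.ResidueField (B v)))).hom] IsLocalRing.ResidueField (B v) :=
          { toFun := fun y => IsLocalRing.residue (B v) (θ y)
            map_add' := fun y y' => by rw [map_add, map_add]
            map_smul' := fun r y => by rw [LinearMap.map_smulₛₗ, smul_eq_mul, map_mul]; rfl }
        refine theta_ext V.2 _ θ' 0 (fun a' => ?_) y
        show IsLocalRing.residue (B v) (θ _) = 0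
        rw [hθ, IsLocalRing.residue_eq_zero_iff]
        exact coeff_taylor_mem v hv hv0 _ hN
      · simp only [J, if_neg hcase]
        trivial
    obtain ⟨r, hrJ, hr⟩ := coords_mem hg he a v hv V.2 hvV x J (fun y => ⟨θ y, hθJ y, by
      let T : Γ(Omega.sheaf f, V.1) →ₛₗ[(pt hg V.1 ηP hηV).hom] B (ηP (k := k)) :=
        ∑ l, x l • th hg he 0 ηP (η_mem_U 0) V.1 hηV l
      let T' : Γ(Omega.sheaf f, V.1) →ₛₗ[(pt hg V.1 ηP hηV).hom] B (ηP (k := k)) :=
        { toFun := fun y => sp v (θ y)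
          map_add' := fun y y' => by rw [map_add, map_add]
          map_smul' := fun r y => by
            rw [LinearMap.map_smulₛₗ, smul_eq_mul, map_mul, smul_eq_mul]
            exact congrArg (· * _) (sp_pt hg V.1 v hvV r) }
      have hT := theta_ext V.2 _ T' T (fun a' => by
        show sp v (θ _) = T _
        rw [hθ, hsp]
        refine (hx' V hηV a').trans ?_
        simp only [T, LinearMap.sum_apply, LinearMap.smul_apply, smul_eq_mul]
        exact Finset.sum_congr rfl fun l _ => mul_comm _ _) y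
      refine hT.trans ?_
      simp only [T, LinearMap.sum_apply, LinearMap.smul_apply, smul_eq_mul]
      refine Finset.sum_congr rfl fun l _ => congrArg (x l * ·) ?_
      rw [sp_th]
      obtain rfl | rfl : a = 0 ∨ a = 1 := by omega
      · rfl
      · rw [th_transition hg he htr V.1 hηV (η_mem_U 0) (η_mem hv) l y, hd l,
          Groth.Agent.H34.SplitP1.Data.up_zero, map_one, one_mul]⟩) p
    refine ⟨r, hr, fun ha hv0 => ?_⟩
    simp only [J, if_pos (And.intro ha hv0)] at hrJ
    exact hrJ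
  intro W hW a
  show δ W hW a = 0
  rw [hx' W hW a]
  exact Finset.sum_eq_zero fun l _ => by rw [hx0, mul_zero]

end

end Groth.Agent.Lib.RatForms33
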