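import Groth.Agent.Lib.RatForms33.FreeCurve

/-!
# Pluricanonical forms vanish in the presence of a free rational curve
-/

set_option autoImplicit false
set_option linter.style.haveILetI false
universe u

open CategoryTheory CategoryTheory.Limits AlgebraicGeometry Opposite TopologicalSpace
open MvPowerSeries (coeff constantCoeff)
open scoped TensorProduct

namespace Groth.Agent.Lib.RatForms33

open Groth.Agent.Lib Groth.Agent.Lib.REqForms33
open Groth.Agent.H34.SplitP1 (P1 U U01 U01_le φ ψ data φ_bijective ψ_apply stdBasis)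
open Groth.Agent.Lib.TensorMod.Basis (comb IsBasis)
open Groth.Agent.Lib.TensorMod.Dual (rs rf rs_rs rs_smul rs_self)
open Groth.Agent.Lib.Modules.AffineHom (exists_affine)

noncomputable section

variable {k : Type u} [Field k] {X : Scheme.{u}} {f : X ⟶ Spec (CommRingCat.of k)} {g : P1 k ⟶ X}
  (hg : g ≫ f = CohB1.ProjSpace.toSpec 1 k) {n : ℕ} {e : ∀ a : Fin 2, Fin n → Γ(EOm f g, U k a)}
  (he : ∀ a, IsBasis (e a)) {i : ℕ} {L : X.Modules} (S : Setup f i L) {j : ℕ}

/-- A scaled derivation in the last slot divides the value. -/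
theorem ev_smul_dvd {R : Type u} [CommRing R] [Algebra k R] (V : X.affineOpens)
    (χv : Chi f V.1 (MvPowerSeries (Fin n) R)) (m : ℕ) (c : Fin n → R) (I : ℕ → Fin i → Fin n) (p : Fin i)
    (z : Γ(CohB1.tensorPow L (m + 1), V.1)) :
    MvPowerSeries.C (c (I m p)) ∣ ev S V χv (m + 1)
      (fun l' q => (MvPowerSeries.C (c (I l' q)) : MvPowerSeries (Fin n) R) • dOp (k := k) (I l' q)) z := by
  classical
  haveI := S.qs
  obtain ⟨t, rfl⟩ := (powEquiv S V m).surjective z
  induction t using TensorProduct.induction_on with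
  | zero => simp
  | add a b ha hb => rw [map_add, map_add]; exact dvd_add ha hb
  | tmul x y =>
    rw [ev_tmul]
    refine Dvd.dvd.mul_left ?_ _
    let D : Fin i → Derivation k (MvPowerSeries (Fin n) R) (MvPowerSeries (Fin n) R) := fun q => dOp (k := k) (I m q)
    let cm : Fin i → MvPowerSeries (Fin n) R := fun q => MvPowerSeries.C (c (I m q))
    let F : Γ(L, V.1) →ₛₗ[χv.hom] MvPowerSeries (Fin n) R := (∏ q, cm q) • form S V χv D
    refine ⟨(∏ q ∈ Finset.univ.erase p, cm q) * form S V χv D y, ?_⟩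
    rw [← mul_assoc, show MvPowerSeries.C (c (I m p)) * ∏ q ∈ Finset.univ.erase p, cm q = ∏ q, cm q from
      Finset.mul_prod_erase _ cm (Finset.mem_univ p)]
    refine form_ext S V _ F (fun e' => ?_) y
    show wedge V.2 χv _ (S.equiv V ((S.equiv V).symm _)) = (∏ q, cm q) * wedge V.2 χv D (S.equiv V ((S.equiv V).symm _))
    rw [LinearEquiv.apply_symm_apply]
    refine (wedge_ιMulti V.2 χv _ e').trans (Eq.trans ?_ (congrArg (_ * ·) (wedge_ιMulti V.2 χv D e').symm))
    rw [← Matrix.det_mul_row]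
    refine congrArg Matrix.det (Matrix.ext fun q r => ?_)
    let θ' : Γ(Omega.sheaf f, V.1) →ₛₗ[χv.hom] MvPowerSeries (Fin n) R := cm r • theta V.2 χv (D r)
    refine theta_ext V.2 χv _ θ' (fun b => ?_) (e' q)
    show theta V.2 χv _ _ = cm r * theta V.2 χv (D r) _
    exact (theta_d V.2 χv _ b).trans (congrArg (cm r * ·) (theta_d V.2 χv (D r) b).symm)

/-- Repeated derivations in the last slot give zero. -/
theorem ev_eq_zero_of_repeat {R : Type u} [CommRing R] [Algebra k R] (V : X.affineOpens) (χ : Chi f V.1 R) (m : ℕ)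
    (δ : ℕ → Fin i → Derivation k R R) {p q : Fin i} (hpq : p ≠ q) (h : δ m p = δ m q)
    (z : Γ(CohB1.tensorPow L (m + 1), V.1)) : ev S V χ (m + 1) δ z = 0 := by
  haveI := S.qs
  obtain ⟨t, rfl⟩ := (powEquiv S V m).surjective z
  induction t using TensorProduct.induction_on with
  | zero => simp
  | add a b ha hb => rw [map_add, map_add, ha, hb, add_zero]
  | tmul x y =>
    rw [ev_tmul]
    suffices h' : form S V χ (δ m) y = 0 by rw [h', mul_zero]
    refine form_ext S V _ 0 (fun e' => ?_) y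
    show wedge V.2 χ _ (S.equiv V ((S.equiv V).symm _)) = 0
    rw [LinearEquiv.apply_symm_apply]
    refine (wedge_ιMulti V.2 χ _ e').trans (Matrix.det_zero_of_column_eq hpq fun a => ?_)
    show theta V.2 χ (δ m p) _ = theta V.2 χ (δ m q) _
    rw [h]

set_option maxHeartbeats 1000000 in
/-- The leading values of a global section are regular, and vanish where the frame degenerates. -/
theorem exists_coeff_mem [Smooth f] [qs : QuasiSeparated f] {W : X.affineOpens} (hW : g ηP ∈ W.1)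
    (hη : (ηP : P1 k) ∈ U k 0) {χ : Chi f W.1 (MvPowerSeries (Fin n) (P1 k).functionField)}
    {b : Module.Basis (Fin n) Γ(X, W.1) Γ(Omega.sheaf f, W.1)}
    {N : Matrix (Fin n) (Fin n) (P1 k).functionField} (hgood : IsGood S.qs χ b N)
    (h0 : ∀ a, cc (k := k) (χ.hom a) = (pt hg W.1 ηP hW).hom a)
    (h1 : ∀ l a, coeff (Finsupp.single l 1) (χ.hom a) = dlin hg he 0 ηP hη W.1 hW l a)
    (m : ℕ) (s : Γ(CohB1.tensorPow L (m + 1), (⊤ : X.Opens)))
    (hord : Ord S χ (m + 1) (rs _ le_top s) j) (v : P1 k) (a : Fin 2) (hv : v ∈ U k a) (c : Fin n → B v)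
    (hth : ∀ (W' : X.Opens) (h : g v ∈ W') (l : Fin n) (y : Γ(Omega.sheaf f, W')),
      sp v (c l) * th hg he a ηP (η_mem hv) W' (η_mem (W := g ⁻¹ᵁ W') h) l y =
        th hg he 0 ηP hη W' (η_mem (W := g ⁻¹ᵁ W') h) l y)
    (I : ℕ → Fin i → Fin n) (d : Fin n →₀ ℕ) (hd : Finsupp.degree d = j) :
    ∃ x : B v, sp v x = coeff d (ev S W χ (m + 1) (dtup I) (rs _ le_top s)) ∧
      ((∃ p, c (I m p) ∈ IsLocalRing.maximalIdeal (B v)) → x ∈ IsLocalRing.maximalIdeal (B v)) := by
  classical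
  let K : Type u := (P1 k).functionField
  obtain ⟨V, -, hvV⟩ := Groth.Agent.Lib.Modules.AffineHom.exists_affine (show g v ∈ (⊤ : X.Opens) from trivial)
  have hηV : g ηP ∈ V.1 := η_mem (W := g ⁻¹ᵁ V.1) hvV
  letI : Algebra k Γ(X, V.1) := (str f V.1).toAlgebra
  haveI := formallySmooth_str (f := f) V
  let ψv : Γ(X, V.1) →ₐ[k] B v := { toRingHom := (pt hg V.1 v hvV).hom, commutes' := (pt hg V.1 v hvV).hom_str }
  obtain ⟨χ0, hc, hl, hk⟩ := exists_lift (n := n) ψv (fun l r => dlin hg he a v hv V.1 hvV l r)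
    (dlin_add hg he a v hv V.1 hvV) (dlin_mul hg he a v hv V.1 hvV) (dlin_str hg he a v hv V.1 hvV)
  let χv : Chi f V.1 (MvPowerSeries (Fin n) (B v)) :=
    ⟨χ0, fun x => (hk x).trans MvPowerSeries.algebraMap_apply.symm⟩
  let J : MvPowerSeries (Fin n) (B v) →ₐ[k] MvPowerSeries (Fin n) K := scale (k := k) (sp v) c
  let δB : ℕ → Fin i → Derivation k (MvPowerSeries (Fin n) (B v)) (MvPowerSeries (Fin n) (B v)) :=
    fun l' p => (MvPowerSeries.C (c (I l' p)) : MvPowerSeries (Fin n) (B v)) • dOp (k := k) (I l' p)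
  have hJ : ∀ l' p r, dtup (k := k) I l' p (J r) = J (δB l' p r) := fun l' p r => dOp_scale (sp v) c _ r
  have hcc : ∀ r', cc (k := k) ((χv.map J).hom r') = (pt hg V.1 ηP hηV).hom r' := fun r' => by
    show constantCoeff (scale (k := k) (sp v) c (χ0 r')) = _
    rw [← MvPowerSeries.coeff_zero_eq_constantCoeff_apply, coeff_scale]
    rw [Finsupp.prod_zero_index, one_mul, MvPowerSeries.coeff_zero_eq_constantCoeff_apply, hc]
    exact sp_pt hg V.1 v hvV r'
  have hlin : ∀ l r', coeff (Finsupp.single l 1) ((χv.map J).hom r') = dlin hg he 0 ηP hη V.1 hηV l r' := fun l r' => by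
    show coeff (Finsupp.single l 1) (scale (k := k) (sp v) c (χ0 r')) = _
    rw [coeff_scale, Finsupp.prod_single_index (h := fun s m => c s ^ m) (pow_zero _), pow_one, map_mul, hl]
    exact (congrArg (sp v (c l) * ·) (sp_th hg he a v hv V.1 hvV l _)).trans (hth V.1 hvV l _)
  obtain ⟨r, hrW, hηr⟩ := V.2.exists_basicOpen_le ⟨g ηP, hW⟩ hηV
  let D : X.affineOpens := ⟨X.basicOpen r, V.2.basicOpen r⟩
  have hDV : D.1 ≤ V.1 := X.basicOpen_le r
  obtain ⟨χD, hres, hccD, hlinD⟩ := exists_chi_basicOpen hg he hη r hηr (χv.map J) hcc hlin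
  have key := lead_eq_ev S hgood (χ' := χD.res hrW)
    (fun r' => ((hccD _).trans (pt_res hg hrW ηP hηr r')).trans (h0 r').symm)
    (fun l r' => ((hlinD l _).trans (dlin_res hg he 0 ηP hη hrW hηr l r')).trans (h1 l r').symm)
    (m + 1) _ j hord I
  have hev : ev S W (χD.res hrW) (m + 1) (dtup I) (rs _ le_top s) =
      J (ev S V χv (m + 1) δB (rs _ le_top s)) := by
    rw [ev_res S W D hrW, rs_rs, ← ev_map S V χv J (m + 1) δB (dtup I) hJ, ← hres, ev_res S V D hDV, rs_rs]
  refine ⟨(d.prod fun s m => c s ^ m) * coeff d (ev S V χv (m + 1) δB (rs _ le_top s)), ?_, fun hcm => ?_⟩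
  · have := mem_ordI.1 key d (hd ▸ Nat.lt_succ_self _)
    rw [map_sub, sub_eq_zero, hev] at this
    exact (coeff_scale (sp v) c _ d).symm.trans this
  · obtain ⟨p, hp⟩ := hcm
    obtain ⟨w, hw⟩ := ev_smul_dvd S V χv m c I p (rs _ le_top s)
    refine Ideal.mul_mem_left _ _ ?_
    rw [show ev S V χv (m + 1) δB (rs _ le_top s) = MvPowerSeries.C (c (I m p)) * w from hw, MvPowerSeries.coeff_C_mul]
    exact Ideal.mul_mem_right _ _ hp

/-- Free curves have nonpositive splitting type. -/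
theorem nonpos_of_subsingleton (d : Fin n → ℤ) {E : (P1 k).Modules}
    (iso : E ≅ ∐ fun j : Fin n => Twist.twistProjSpace 1 k (d j))
    (h : Subsingleton (Coh.HH (P1 k) (CohB1.tensorMod E (Twist.twistProjSpace 1 k (-1))) 0)) (j : Fin n) : d j ≤ 0 := by
  by_contra hd
  push Not at hd
  let O1 : (P1 k).Modules := Twist.twistProjSpace 1 k (-1)
  let T : (P1 k).Modules := CohB1.tensorMod E O1
  have htop : Subsingleton Γ(T, (⊤ : (P1 k).Opens)) := (Curves.GlobalSections.h0Equiv T).symm.toEquiv.subsingleton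
  let w : ∀ a : Fin 2, Γ(E, U k a) := fun a => iso.inv.app (U k a) (stdBasis d a j)
  have hw : rs E (U01_le k 1) (w 1) = (data k).up (d j) • rs E (U01_le k 0) (w 0) := by
    show rs _ _ (iso.inv.app _ _) = _ • rs _ _ (iso.inv.app _ _)
    rw [Groth.Agent.Lib.TensorMod.HomGlue.rs_app, Groth.Agent.Lib.TensorMod.HomGlue.rs_app,
      Groth.Agent.H34.SplitP1.stdBasis_transition, Scheme.Modules.Hom.app_smul]
  let o : ∀ a : Fin 2, Γ(O1, U k a) := fun a => Groth.Agent.H34.SplitP1.gen k (-1) a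
  have ho : rs O1 (U01_le k 1) (o 1) = (data k).up (-1) • rs O1 (U01_le k 0) (o 0) :=
    Groth.Agent.H34.SplitP1.gen_transition (k := k) (-1)
  let σ : ∀ a : Fin 2, Γ(T, U k a) := Fin.cons
    (φ k 0 (Polynomial.X ^ (d j - 1).toNat) • Modules.TensorSec.tens (w 0) (o 0))
    (Fin.cons (Modules.TensorSec.tens (w 1) (o 1)) finZeroElim)
  have hσ : rs T (U01_le k 0) (σ 0) = rs T (U01_le k 1) (σ 1) := by
    show rs T (U01_le k 0) (φ k 0 (Polynomial.X ^ (d j - 1).toNat) • Modules.TensorSec.tens (w 0) (o 0)) =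
      rs T (U01_le k 1) (Modules.TensorSec.tens (w 1) (o 1))
    rw [rs_smul, Modules.TensorSec.rs_tens, Modules.TensorSec.rs_tens, hw, ho, Modules.TensorSec.tens_smul_left,
      Modules.TensorSec.tens_smul_right, smul_smul, ← Groth.Agent.H34.SplitP1.Data.up_add, ← ψ_apply]
    congr 1
    exact ((data k).φ0_X_pow _).trans (by rw [Int.toNat_of_nonneg (by omega)]; congr 1)
  obtain ⟨s, hs, -⟩ := TopCat.Sheaf.existsUnique_gluing' ⟨T.presheaf, T.isSheaf⟩ (U k) ⊤ (fun a => homOfLE le_top)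
    (by rw [Groth.Agent.H34.SplitP1.iSup_U]) σ fun a b => by
      change rs T (inf_le_left : U k a ⊓ U k b ≤ U k a) (σ a) = rs T (inf_le_right : U k a ⊓ U k b ≤ U k b) (σ b)
      obtain rfl | rfl : a = 0 ∨ a = 1 := by omega
      all_goals obtain rfl | rfl : b = 0 ∨ b = 1 := by omega
      · rfl
      · exact hσ
      · have := congrArg (rs T (show U k 1 ⊓ U k 0 ≤ U01 k from le_inf inf_le_right inf_le_left)) hσ.symm
        rwa [rs_rs, rs_rs] at this
      · rfl
  have h0 : rs T (le_top : U k 1 ≤ ⊤) s = σ 1 := hs 1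
  rw [Subsingleton.elim s 0, show rs T (le_top : U k 1 ≤ ⊤) (0 : Γ(T, (⊤ : (P1 k).Opens))) = 0 from map_zero _] at h0
  have hb : IsBasis (fun l => iso.inv.app (U k 1) (stdBasis d 1 l)) :=
    Groth.Agent.H34.SplitP1.Basis.isBasis_map iso.symm (Groth.Agent.H34.SplitP1.isBasis_stdBasis d 1)
  haveI : E.IsQuasicoherent := TensorMod.QCohInv.isQCoh_of_isFinLocFree fun x => by
    obtain ⟨a, ha⟩ := Opens.mem_iSup.1
      (show x ∈ iSup (U k) from Groth.Agent.H34.SplitP1.iSup_U (k := k) ▸ trivial)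
    obtain ⟨i'⟩ := TensorMod.Basis.exists_iso_of_basis (Groth.Agent.H34.SplitP1.Basis.isBasis_map iso.symm
      (Groth.Agent.H34.SplitP1.isBasis_stdBasis d a))
    exact ⟨U k a, n, ha, ⟨i'⟩⟩
  haveI : O1.IsQuasicoherent := TensorMod.QCohInv.isQCoh_of_isFinLocFree
    (TensorMod.LocFree.of_rank (TensorMod.LocFree.of_isInvertible (TensorMod.Gen.isInvertible_iff.2 fun x => by
      obtain ⟨a, ha⟩ := Opens.mem_iSup.1
        (show x ∈ iSup (U k) from Groth.Agent.H34.SplitP1.iSup_U (k := k) ▸ trivial)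
      exact ⟨U k a, o a, ha, Groth.Agent.H34.SplitP1.isGen_gen (-1) a⟩)))
  have hU : IsAffineOpen (U k 1) := ProjSpace.Basic.isAffineOpen_basicOpen_X (R := k) 1
  have hz : (w 1 ⊗ₜ[Γ(P1 k, U k 1)] o 1 : Γ(E, U k 1) ⊗[Γ(P1 k, U k 1)] Γ(O1, U k 1)) = 0 :=
    (Modules.TensorAffine.bijective_gamma hU).1 (h0.symm.trans (map_zero _).symm)
  have hgen := Groth.Agent.H34.SplitP1.isGen_gen (k := k) (-1) 1 (U k 1) le_rfl
  let eo : Γ(P1 k, U k 1) ≃ₗ[Γ(P1 k, U k 1)] Γ(O1, U k 1) :=
    LinearEquiv.ofBijective (LinearMap.toSpanSingleton Γ(P1 k, U k 1) _ (o 1)) (by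
      rw [show ⇑(LinearMap.toSpanSingleton Γ(P1 k, U k 1) _ (o 1)) = fun r => r • rs O1 le_rfl (o 1) from
        funext fun r => by rw [rs_self]; rfl]
      exact hgen)
  have hw0 : w 1 = 0 := by
    have := congrArg ((TensorProduct.rid Γ(P1 k, U k 1) Γ(E, U k 1)).toLinearMap.comp
      (eo.symm.toLinearMap.lTensor Γ(E, U k 1))) hz
    rw [map_zero] at this
    simpa [show eo.symm (o 1) = 1 from eo.symm_apply_eq.2 (by simp [eo])] using this
  have h1 : comb (fun l => iso.inv.app (U k 1) (stdBasis (k := k) d 1 l)) le_rfl (fun l => if l = j then 1 else 0) =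
      comb (fun l => iso.inv.app (U k 1) (stdBasis (k := k) d 1 l)) le_rfl 0 := by
    simp [comb, ite_smul, rs_self]
    exact hw0
  have h2 := congrFun ((hb _ le_rfl).1 h1) j
  simp at h2

include hg in
/-- Pluricanonical forms vanish in the presence of a free rational curve. -/
theorem eq_zero_of_free [IsIntegral X] [Smooth f] [qs : QuasiSeparated f]
    (hn : FlatMod.IsFinLocFreeOfRank n (Omega.sheaf f))
    (hfree : Subsingleton (Coh.HH (P1 k)
      (CohB1.tensorMod ((Scheme.Modules.pullback g).obj (Omega.sheaf f)) (Twist.twistProjSpace 1 k (-1))) 0))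
    (hnc : ¬ ∃ x : X, Set.range g.base ⊆ {x})
    {L : X.Modules} (S : Setup f n L) (m : ℕ) (s : Γ(CohB1.tensorPow L (m + 1), (⊤ : X.Opens))) : s = 0 := by
  classical
  haveI : (Omega.sheaf f).IsQuasicoherent :=
    TensorMod.QCohInv.isQCoh_of_isFinLocFree (TensorMod.LocFree.of_rank hn)
  obtain ⟨d, -, ⟨iso⟩⟩ := Groth.Agent.H34.SplitP1.exists_splitting (TensorMod.LocFree.rank_pullback g hn)
  have hd := nonpos_of_subsingleton d iso hfree
  let e : ∀ a : Fin 2, Fin n → Γ(EOm f g, U k a) := fun a j => iso.inv.app (U k a) (stdBasis d a j)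
  have he : ∀ a, IsBasis (e a) := fun a =>
    Groth.Agent.H34.SplitP1.Basis.isBasis_map iso.symm (Groth.Agent.H34.SplitP1.isBasis_stdBasis d a)
  have htr : ∀ j, rs (EOm f g) (U01_le k 1) (e 1 j) = (data k).up (d j) • rs (EOm f g) (U01_le k 0) (e 0 j) :=
    fun j => by
      show rs _ _ (iso.inv.app _ _) = _ • rs _ _ (iso.inv.app _ _)
      rw [Groth.Agent.Lib.TensorMod.HomGlue.rs_app, Groth.Agent.Lib.TensorMod.HomGlue.rs_app,
        Groth.Agent.H34.SplitP1.stdBasis_transition, Scheme.Modules.Hom.app_smul]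
  obtain ⟨U₀, hη₀, ⟨i₀⟩⟩ := hn (g ηP)
  obtain ⟨e₀, he₀⟩ := TensorMod.Basis.exists_basis_of_iso i₀
  obtain ⟨W, hWU, hW⟩ := exists_affine hη₀
  let b : Module.Basis (Fin n) Γ(X, W.1) Γ(Omega.sheaf f, W.1) :=
    Module.Basis.ofEquivFun (LinearEquiv.ofBijective (Groth.Agent.H34.SplitP1.Basis.combₗ e₀ hWU) (by
      rw [show ⇑(Groth.Agent.H34.SplitP1.Basis.combₗ e₀ hWU) = comb e₀ hWU from
        funext (Groth.Agent.H34.SplitP1.Basis.combₗ_apply e₀ _)]
      exact he₀ _ _)).symm
  obtain ⟨χ, N, hgood, h0, h1⟩ := exists_good hg he W hW (η_mem_U 0) b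
  obtain ⟨l₀, hl₀⟩ := exists_ne_zero_degree hg he htr hW hgood h0 h1 hnc
  haveI : Nonempty W.1 := ⟨⟨g ηP, hW⟩⟩
  let z := rs (CohB1.tensorPow L (m + 1)) (le_top : W.1 ≤ ⊤) s
  have hord : ∀ j, Ord S χ (m + 1) z j := by
    intro j
    induction j with
    | zero => intro I; rw [ordI_zero]; trivial
    | succ j ih =>
      refine fun I => mem_ordI.2 fun dd hdd => ?_
      rcases Nat.lt_succ_iff_lt_or_eq.1 hdd with hlt | heq
      · exact mem_ordI.1 (ih I) dd hlt
      by_cases hinj : Function.Injective (I m)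
      swap
      · rw [Function.not_injective_iff] at hinj
        obtain ⟨p, q, hpq, hne⟩ := hinj
        rw [ev_eq_zero_of_repeat S W χ m (dtup I) hne (congrArg (dOp (k := k)) hpq), map_zero]
      obtain ⟨p₀, hp₀⟩ := (Finite.injective_iff_surjective.1 hinj) l₀
      refine eq_zero_of_regular _ fun a v hv => ?_
      let Nl : Fin n → ℕ := fun l => (-d l).toNat
      obtain rfl | rfl : a = 0 ∨ a = 1 := by omega
      · obtain ⟨y, hy, -⟩ := exists_coeff_mem hg he S hW (η_mem_U 0) hgood h0 h1 m s ih v 0 hv (fun _ => 1)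
          (fun W' h' l y => by rw [map_one, one_mul]) I dd heq
        exact ⟨y, hy, fun h01 => absurd h01 (by decide)⟩
      · obtain ⟨y, hy, hm⟩ := exists_coeff_mem hg he S hW (η_mem_U 0) hgood h0 h1 m s ih v 1 hv
          (fun l => (P1 k).presheaf.germ (U k 1) v hv (φ k 1 (Polynomial.X ^ Nl l))) (fun W' h' l y => by
            rw [th_transition hg he htr W' (η_mem (W := g ⁻¹ᵁ W') h') (η_mem_U 0) (η_mem hv) l y, sp_germ]
            congr 1
            rw [show (data k).up (d l) = rf (U01_le k 1) (φ k 1 (Polynomial.X ^ Nl l)) by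
              rw [← ψ_apply]
              refine Eq.trans ?_ ((data k).φ1_X_pow (Nl l)).symm
              congr 1
              have := hd l
              simp only [Nl]
              omega]
            exact (germ_eq_rf (k := k) (U01_le k 1) ηP ⟨η_mem_U 0, η_mem_U 1⟩ _).symm) I dd heq
        refine ⟨y, hy, fun _ hv0 => hm ⟨p₀, ?_⟩⟩
        rw [hp₀, map_pow, map_pow]
        refine Ideal.pow_mem_of_mem _ ?_ _ (by have := hd l₀; simp only [Nl]; omega)
        exact fun hu => hv0 ((isUnit_germ_φX hv).1 hu)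
  exact eq_zero_of_restrict (isFinLocFree_tensorPow S.locFree _) s hW
    (eq_zero_of_ord S hgood (m + 1) z hord fun h => h)

end

end Groth.Agent.Lib.RatForms33
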