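import Groth.Agent.Lib.RatForms33.Bound
import Groth.Agent.Lib.Curves.GlobalSections

/-!
# No tensor forms on a variety with a very free rational curve
-/

set_option autoImplicit false
set_option linter.style.haveILetI false
universe u

open CategoryTheory CategoryTheory.Limits AlgebraicGeometry Opposite TopologicalSpace
open MvPowerSeries (coeff constantCoeff)

namespace Groth.Agent.Lib.RatForms33

open Groth.Agent.Lib Groth.Agent.Lib.REqForms33
open Groth.Agent.H34.SplitP1 (P1 U U01 U01_le φ ψ data φ_bijective ψ_apply stdBasis)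
open Groth.Agent.Lib.TensorMod.Basis (comb IsBasis)
open Groth.Agent.Lib.TensorMod.Dual (rs rf rs_rs rs_smul rs_self)
open Groth.Agent.Lib.Modules.AffineHom (exists_affine)

noncomputable section

variable {k : Type u} [Field k]

theorem η_mem_U (a : Fin 2) : (ηP : P1 k) ∈ U k a := by
  obtain ⟨⟨v, hv⟩⟩ := Groth.Agent.H34.SplitP1.nonempty_U (k := k) a
  exact η_mem hv

theorem germ_eq_rf {W V : (P1 k).Opens} (h : V ≤ W) (v : P1 k) (hv : v ∈ V) (r : Γ(P1 k, W)) :
    (P1 k).presheaf.germ V v hv (rf h r) = (P1 k).presheaf.germ W v (h hv) r :=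
  TopCat.Presheaf.germ_res_apply (P1 k).presheaf (homOfLE h) v hv r

theorem isUnit_germ_φX {v : P1 k} (hv : v ∈ U k 1) :
    IsUnit ((P1 k).presheaf.germ (U k 1) v hv (φ k 1 Polynomial.X)) ↔ v ∈ U k 0 := by
  rw [← (P1 k).mem_basicOpen _ v hv, Groth.Agent.H34.SplitP1.basicOpen_φ_X_eq_U01]
  exact ⟨fun h => h.1, fun h => ⟨h, hv⟩⟩

/-- A function regular everywhere and vanishing at infinity is zero. -/
theorem eq_zero_of_regular (x : B (ηP (k := k))) (h : ∀ (a : Fin 2) (v : P1 k), v ∈ U k a →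
    ∃ y : B v, sp v y = x ∧ (a = 1 → v ∉ U k 0 → y ∈ IsLocalRing.maximalIdeal (B v))) : x = 0 := by
  have hglue : ∀ a : Fin 2, ∃ q : Γ(P1 k, U k a), (P1 k).presheaf.germ (U k a) ηP (η_mem_U a) q = x := by
    intro a
    have hloc : ∀ v : (U k a : (P1 k).Opens), ∃ (V : (P1 k).Opens) (hvV : v.1 ∈ V) (_ : V ≤ U k a)
        (r : Γ(P1 k, V)), (P1 k).presheaf.germ V ηP (η_mem hvV) r = x := fun v => by
      obtain ⟨y, hy, -⟩ := h a v.1 v.2
      obtain ⟨V, hvV, r, rfl⟩ := (P1 k).presheaf.exists_germ_eq y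
      refine ⟨V ⊓ U k a, ⟨hvV, v.2⟩, inf_le_right, rf inf_le_left r, ?_⟩
      rw [germ_eq_rf, ← hy, sp_germ]
    choose V hvV hVa r hr using hloc
    obtain ⟨q, hq, -⟩ := TopCat.Sheaf.existsUnique_gluing' (P1 k).sheaf V (U k a) (fun v => homOfLE (hVa v))
      (fun v hv => Opens.mem_iSup.2 ⟨⟨v, hv⟩, hvV ⟨v, hv⟩⟩) r fun v w => by
        change rf (inf_le_left : V v ⊓ V w ≤ V v) (r v) = rf (inf_le_right : V v ⊓ V w ≤ V w) (r w)
        haveI : Nonempty ↑(V v ⊓ V w) := ⟨⟨ηP, η_mem (hvV v), η_mem (hvV w)⟩⟩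
        apply germ_injective_of_isIntegral (P1 k) ηP (show ηP ∈ V v ⊓ V w from ⟨η_mem (hvV v), η_mem (hvV w)⟩)
        rw [germ_eq_rf, germ_eq_rf, hr, hr]
    obtain ⟨v, hv⟩ := Groth.Agent.H34.SplitP1.nonempty_U (k := k) a |>.some
    refine ⟨q, ?_⟩
    exact ((congrArg _ (hq ⟨v, hv⟩).symm).trans (germ_eq_rf (hVa ⟨v, hv⟩) ηP _ q)).symm.trans (hr ⟨v, hv⟩)
  obtain ⟨q0, hq0⟩ := hglue 0
  obtain ⟨q1, hq1⟩ := hglue 1
  obtain ⟨p0, rfl⟩ := (φ_bijective k 0).2 q0
  obtain ⟨p1, rfl⟩ := (φ_bijective k 1).2 q1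
  obtain ⟨v, hv1, hv0⟩ : ∃ v : P1 k, v ∈ U k 1 ∧ v ∉ U k 0 := by
    by_contra hc
    push Not at hc
    have : IsUnit (φ k 1 Polynomial.X) :=
      (P1 k).toRingedSpace.isUnit_of_isUnit_germ (U k 1) (φ k 1 Polynomial.X)
        fun v hv => (isUnit_germ_φX hv).2 (hc v hv)
    obtain ⟨b, hb⟩ := this.exists_right_inv
    obtain ⟨b, rfl⟩ := (φ_bijective k 1).2 b
    exact Polynomial.not_isUnit_X (IsUnit.of_mul_eq_one b ((φ_bijective k 1).1 (by rw [map_mul, hb, map_one])))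
  obtain ⟨p, c, rfl⟩ : ∃ p c, p1 = Polynomial.X * p + Polynomial.C c :=
    ⟨p1.divX, p1.coeff 0, (Polynomial.X_mul_divX_add p1).symm⟩
  have hc : c = 0 := by
    obtain ⟨y, hy, hm⟩ := h 1 v hv1
    have hinj : Function.Injective (sp v) :=
      IsFractionRing.injective ((P1 k).presheaf.stalk v) (P1 k).functionField
    have hy' : y = (P1 k).presheaf.germ (U k 1) v hv1 (φ k 1 (Polynomial.X * p + Polynomial.C c)) :=
      hinj (by rw [hy, sp_germ, hq1])
    have hX : (P1 k).presheaf.germ (U k 1) v hv1 (φ k 1 Polynomial.X) ∈ IsLocalRing.maximalIdeal (B v) :=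
      fun hu => hv0 ((isUnit_germ_φX hv1).1 hu)
    by_contra hne
    have hu : IsUnit ((P1 k).presheaf.germ (U k 1) v hv1 (φ k 1 (Polynomial.C c))) :=
      ((((Polynomial.isUnit_C.2 (isUnit_iff_ne_zero.2 hne))).map (φ k 1)).map _)
    have hmem := hm rfl hv0
    rw [hy', map_add, map_mul, map_add, map_mul] at hmem
    exact (IsLocalRing.maximalIdeal.isMaximal (B v)).ne_top (Ideal.eq_top_of_isUnit_mem _
      ((Ideal.add_mem_iff_right _ (Ideal.mul_mem_right _ _ hX)).1 hmem) hu)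
  subst hc
  rw [map_zero, add_zero] at hq1
  have hη01 : (ηP : P1 k) ∈ U01 k := ⟨η_mem_U 0, η_mem_U 1⟩
  haveI : Nonempty (U01 k : (P1 k).Opens) := ⟨⟨ηP, hη01⟩⟩
  have he : ψ k 1 (Polynomial.X * p) = ψ k 0 p0 := by
    apply germ_injective_of_isIntegral (P1 k) ηP hη01
    rw [ψ_apply, ψ_apply, germ_eq_rf, germ_eq_rf, hq0, hq1]
  have hp : p = 0 := (data k).eq_zero_of_pos (n := 1) (q := p0) one_pos (by
    show ψ k 1 p = (data k).up 1 * ψ k 0 p0
    rw [← he, map_mul, ← mul_assoc, show (data k).up 1 = ψ k 0 Polynomial.X by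
      rw [show (1 : ℤ) = ((1 : ℕ) : ℤ) from rfl, Groth.Agent.H34.SplitP1.Data.up_natCast, pow_one]; rfl,
      Groth.Agent.H34.SplitP1.ψ_mul_ψ, one_mul])
  rw [← hq1, hp, mul_zero, map_zero, map_zero]

variable {X : Scheme.{u}} {f : X ⟶ Spec (CommRingCat.of k)} {g : P1 k ⟶ X}

/-- On an integral scheme a locally free module has a constant rank. -/
theorem exists_rank [IsIntegral X] {M : X.Modules} (hM : FlatMod.IsFinLocFree M) (x₀ : X) :
    ∃ n, FlatMod.IsFinLocFreeOfRank n M := by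
  obtain ⟨U₀, n, hx₀, ⟨i₀⟩⟩ := hM x₀
  refine ⟨n, fun x => ?_⟩
  obtain ⟨U₁, m, hx, ⟨i₁⟩⟩ := hM x
  obtain ⟨e₀, he₀⟩ := TensorMod.Basis.exists_basis_of_iso i₀
  obtain ⟨e₁, he₁⟩ := TensorMod.Basis.exists_basis_of_iso i₁
  have hη : genericPoint X ∈ U₀ ⊓ U₁ :=
    ⟨((genericPoint_spec X).mem_open_set_iff U₀.2).2 ⟨x₀, trivial, hx₀⟩,
      ((genericPoint_spec X).mem_open_set_iff U₁.2).2 ⟨x, trivial, hx⟩⟩
  haveI : Nonempty (U₀ ⊓ U₁ : X.Opens) := ⟨⟨_, hη⟩⟩
  let c₀ := LinearEquiv.ofBijective (Groth.Agent.H34.SplitP1.Basis.combₗ e₀ (inf_le_left : U₀ ⊓ U₁ ≤ U₀)) (by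
    rw [show ⇑(Groth.Agent.H34.SplitP1.Basis.combₗ e₀ (inf_le_left : U₀ ⊓ U₁ ≤ U₀)) = comb e₀ inf_le_left from
      funext (Groth.Agent.H34.SplitP1.Basis.combₗ_apply e₀ _)]
    exact he₀ _ _)
  let c₁ := LinearEquiv.ofBijective (Groth.Agent.H34.SplitP1.Basis.combₗ e₁ (inf_le_right : U₀ ⊓ U₁ ≤ U₁)) (by
    rw [show ⇑(Groth.Agent.H34.SplitP1.Basis.combₗ e₁ (inf_le_right : U₀ ⊓ U₁ ≤ U₁)) = comb e₁ inf_le_right from
      funext (Groth.Agent.H34.SplitP1.Basis.combₗ_apply e₁ _)]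
    exact he₁ _ _)
  have hmn : m = n := by
    have := (c₁.trans c₀.symm).finrank_eq
    simpa [Module.finrank_fintype_fun_eq_card] using this
  subst hmn
  exact ⟨U₁, hx, ⟨i₁⟩⟩

/-- Very free curves have negative splitting type. -/
theorem neg_of_subsingleton {n : ℕ} (d : Fin n → ℤ) {E : (P1 k).Modules}
    (iso : E ≅ ∐ fun j : Fin n => Twist.twistProjSpace 1 k (d j))
    (h : Subsingleton (Coh.HH (P1 k) E 0)) (j : Fin n) : d j < 0 := by
  by_contra hd
  push Not at hd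
  let T : (P1 k).Modules := ∐ fun j : Fin n => Twist.twistProjSpace 1 k (d j)
  have htop : Subsingleton Γ(T, (⊤ : (P1 k).Opens)) := by
    have h1 : Subsingleton Γ(E, (⊤ : (P1 k).Opens)) := (Curves.GlobalSections.h0Equiv E).symm.toEquiv.subsingleton
    exact (Equiv.ofBijective _ (ConcreteCategory.bijective_of_isIso (iso.inv.app (⊤ : (P1 k).Opens)))).subsingleton
  let σ : ∀ a : Fin 2, Γ(T, U k a) := Fin.cons
    (φ k 0 (Polynomial.X ^ (d j).toNat) • stdBasis d 0 j) (Fin.cons (stdBasis d 1 j) finZeroElim)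
  have hσ : rs T (U01_le k 0) (σ 0) = rs T (U01_le k 1) (σ 1) := by
    show rs T (U01_le k 0) (φ k 0 (Polynomial.X ^ (d j).toNat) • stdBasis d 0 j) = rs T (U01_le k 1) (stdBasis d 1 j)
    rw [rs_smul, Groth.Agent.H34.SplitP1.stdBasis_transition, ← ψ_apply]
    congr 1
    exact ((data k).φ0_X_pow _).trans (by rw [Int.toNat_of_nonneg hd])
  obtain ⟨s, hs, -⟩ := TopCat.Sheaf.existsUnique_gluing' ⟨T.presheaf, T.isSheaf⟩ (U k) ⊤ (fun a => homOfLE le_top)
    (by rw [Groth.Agent.H34.SplitP1.iSup_U]) σ fun a b => by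
      change rs T (inf_le_left : U k a ⊓ U k b ≤ U k a) (σ a) = rs T (inf_le_right : U k a ⊓ U k b ≤ U k b) (σ b)
      obtain rfl | rfl : a = 0 ∨ a = 1 := by omega
      all_goals obtain rfl | rfl : b = 0 ∨ b = 1 := by omega
      · rfl
      · exact hσ
      · have := congrArg (rs T (show U k 1 ⊓ U k 0 ≤ U01 k from le_inf inf_le_right inf_le_left)) hσ.symm
        rwa [rs_rs, rs_rs] at this
      · rfl
  have h0 : rs T (le_top : U k 1 ≤ ⊤) s = σ 1 := hs 1
  rw [Subsingleton.elim s 0, show rs T (le_top : U k 1 ≤ ⊤) (0 : Γ(T, (⊤ : (P1 k).Opens))) = 0 from map_zero _] at h0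
  have h1 : comb (stdBasis (k := k) d 1) le_rfl (fun l => if l = j then 1 else 0) =
      comb (stdBasis (k := k) d 1) le_rfl 0 := by
    have h2 : σ 1 = stdBasis d 1 j := rfl
    simp [comb, ite_smul, ← h2, ← h0, rs_self]
  have h2 := congrFun ((Groth.Agent.H34.SplitP1.isBasis_stdBasis d 1 _ le_rfl).1 h1) j
  simp at h2

theorem isFinLocFree_tensorPow {L : X.Modules} (hL : FlatMod.IsFinLocFree L) (m : ℕ) :
    FlatMod.IsFinLocFree (CohB1.tensorPow L m) := by
  induction m with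
  | zero => exact TensorMod.LocFree.of_rank (TensorMod.LocFree.of_isInvertible (PicLoc.isInvertible_structureModule X))
  | succ m ih => exact TensorMod.LocFree.isFinLocFree_tensorMod ih hL

/-- A section vanishing on a nonempty open of an integral scheme vanishes. -/
theorem eq_zero_of_restrict [IsIntegral X] {M : X.Modules} (hM : FlatMod.IsFinLocFree M)
    (s : Γ(M, (⊤ : X.Opens))) {W : X.Opens} {x₀ : X} (hx₀ : x₀ ∈ W) (h : rs M (le_top : W ≤ ⊤) s = 0) : s = 0 := by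
  refine Groth.Agent.Lib.Modules.TensorSec.section_ext _ s 0 fun x _ => ?_
  obtain ⟨V, n, hxV, ⟨i⟩⟩ := hM x
  obtain ⟨e, he⟩ := TensorMod.Basis.exists_basis_of_iso i
  refine ⟨V, le_top, hxV, ?_⟩
  rw [show rs M (le_top : V ≤ ⊤) (0 : Γ(M, (⊤ : X.Opens))) = 0 from map_zero _]
  obtain ⟨c, hc⟩ := (he V le_rfl).2 (rs M le_top s)
  have hη : genericPoint X ∈ V ⊓ W :=
    ⟨((genericPoint_spec X).mem_open_set_iff V.2).2 ⟨x, trivial, hxV⟩,
      ((genericPoint_spec X).mem_open_set_iff W.2).2 ⟨x₀, trivial, hx₀⟩⟩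
  have h1 : comb e (inf_le_left : V ⊓ W ≤ V) (fun l => rf inf_le_left (c l)) = comb e inf_le_left 0 := by
    rw [← TensorMod.Basis.rs_comb e le_rfl, hc, rs_rs]
    have h2 := congrArg (rs M (inf_le_right : V ⊓ W ≤ W)) h
    rw [rs_rs, show rs M (inf_le_right : V ⊓ W ≤ W) (0 : Γ(M, W)) = 0 from map_zero _] at h2
    rw [h2]
    simp [comb]
  have hc0 : c = 0 := funext fun l => by
    haveI : Nonempty (V : X.Opens) := ⟨⟨x, hxV⟩⟩
    apply germ_injective_of_isIntegral X (genericPoint X) hη.1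
    have := congrArg (X.presheaf.germ (V ⊓ W) (genericPoint X) hη) (congrFun ((he _ inf_le_left).1 h1) l)
    rw [Pi.zero_apply, map_zero] at this ⊢
    exact (TopCat.Presheaf.germ_res_apply X.presheaf (homOfLE inf_le_left) _ hη (c l)).symm.trans this
  rw [← hc, hc0]
  simp [comb]

variable (hg : g ≫ f = CohB1.ProjSpace.toSpec 1 k)

include hg in
/-- Tensor forms vanish in the presence of a very free rational curve. -/
theorem eq_zero_of_veryFree [IsIntegral X] [Smooth f] [qs : QuasiSeparated f]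
    (hvf : Subsingleton (Coh.HH (P1 k) ((Scheme.Modules.pullback g).obj (Omega.sheaf f)) 0))
    {i : ℕ} (hi : 0 < i) {L : X.Modules} (S : Setup f i L) (m : ℕ)
    (s : Γ(CohB1.tensorPow L (m + 1), (⊤ : X.Opens))) : s = 0 := by
  classical
  have hΩ : FlatMod.IsFinLocFree (Omega.sheaf f) :=
    Kaehler.LocFree.isFinLocFree_of_smooth (Kaehler.DOmega.isUniversal_dOmega f)
  haveI : (Omega.sheaf f).IsQuasicoherent := TensorMod.QCohInv.isQCoh_of_isFinLocFree hΩ
  obtain ⟨n, hn⟩ := exists_rank hΩ (g ηP)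
  obtain ⟨d, -, ⟨iso⟩⟩ := Groth.Agent.H34.SplitP1.exists_splitting (TensorMod.LocFree.rank_pullback g hn)
  have hd := neg_of_subsingleton d iso hvf
  let e : ∀ a : Fin 2, Fin n → Γ(EOm f g, U k a) := fun a j => iso.inv.app (U k a) (stdBasis d a j)
  have he : ∀ a, IsBasis (e a) := fun a =>
    Groth.Agent.H34.SplitP1.Basis.isBasis_map iso.symm (Groth.Agent.H34.SplitP1.isBasis_stdBasis d a)
  have htr : ∀ j, rs (EOm f g) (U01_le k 1) (e 1 j) = (data k).up (d j) • rs (EOm f g) (U01_le k 0) (e 0 j) :=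
    fun j => by
      show rs _ _ (iso.inv.app _ _) = _ • rs _ _ (iso.inv.app _ _)
      rw [Groth.Agent.Lib.TensorMod.HomGlue.rs_app, Groth.Agent.Lib.TensorMod.HomGlue.rs_app,
        Groth.Agent.H34.SplitP1.stdBasis_transition, Scheme.Modules.Hom.app_smul]
  -- an affine open with a basis of differentials
  obtain ⟨U₀, hη₀, ⟨i₀⟩⟩ := hn (g ηP)
  obtain ⟨e₀, he₀⟩ := TensorMod.Basis.exists_basis_of_iso i₀
  obtain ⟨W, hWU, hW⟩ := exists_affine hη₀
  let b : Module.Basis (Fin n) Γ(X, W.1) Γ(Omega.sheaf f, W.1) :=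
    Module.Basis.ofEquivFun (LinearEquiv.ofBijective (Groth.Agent.H34.SplitP1.Basis.combₗ e₀ hWU) (by
      rw [show ⇑(Groth.Agent.H34.SplitP1.Basis.combₗ e₀ hWU) = comb e₀ hWU from
        funext (Groth.Agent.H34.SplitP1.Basis.combₗ_apply e₀ _)]
      exact he₀ _ _)).symm
  obtain ⟨χ, N, hgood, h0, h1⟩ := exists_good hg he W hW (η_mem_U 0) b
  haveI : Nonempty W.1 := ⟨⟨g ηP, hW⟩⟩
  let z := rs (CohB1.tensorPow L (m + 1)) (le_top : W.1 ≤ ⊤) s
  have hord : ∀ j, Ord S χ (m + 1) z j := by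
    intro j
    induction j with
    | zero => intro I; rw [ordI_zero]; trivial
    | succ j ih =>
      refine fun I => mem_ordI.2 fun dd hdd => ?_
      rcases Nat.lt_succ_iff_lt_or_eq.1 hdd with hlt | heq
      · exact mem_ordI.1 (ih I) dd hlt
      refine eq_zero_of_regular _ fun a v hv => ?_
      let Nl : Fin n → ℕ := fun l => (-d l).toNat
      obtain rfl | rfl : a = 0 ∨ a = 1 := by omega
      · obtain ⟨y, hy, -⟩ := exists_coeff_eq hg he S hW (η_mem_U 0) hgood h0 h1 m hi s ih v 0 hv (fun _ => 1)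
          (fun W' h' l y => by rw [map_one, one_mul]) I dd heq
        exact ⟨y, hy, fun h01 => absurd h01 (by decide)⟩
      · obtain ⟨y, hy, hm⟩ := exists_coeff_eq hg he S hW (η_mem_U 0) hgood h0 h1 m hi s ih v 1 hv
          (fun l => (P1 k).presheaf.germ (U k 1) v hv (φ k 1 (Polynomial.X ^ Nl l))) (fun W' h' l y => by
            rw [th_transition hg he htr W' (η_mem (W := g ⁻¹ᵁ W') h') (η_mem_U 0) (η_mem hv) l y, sp_germ]
            congr 1
            rw [show (data k).up (d l) = rf (U01_le k 1) (φ k 1 (Polynomial.X ^ Nl l)) by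
              rw [← ψ_apply]
              refine Eq.trans ?_ ((data k).φ1_X_pow (Nl l)).symm
              congr 1
              have := hd l
              simp only [Nl]
              omega]
            exact (germ_eq_rf (k := k) (U01_le k 1) ηP ⟨η_mem_U 0, η_mem_U 1⟩ _).symm) I dd heq
        refine ⟨y, hy, fun _ hv0 => hm fun l => ?_⟩
        rw [map_pow, map_pow]
        refine Ideal.pow_mem_of_mem _ ?_ _ (by have := hd l; simp only [Nl]; omega)
        exact fun hu => hv0 ((isUnit_germ_φX hv).1 hu)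
  haveI : LocallyOfFiniteType f := inferInstance
  have hz : z = 0 := by
    by_cases hn0 : 0 < n
    · exact eq_zero_of_ord S hgood (m + 1) z hord fun _ => hn0
    · haveI : IsEmpty (Set.powersetCard (Fin n) i) := ⟨fun T => by
        have h1 := Finset.card_le_univ T.1
        rw [Set.powersetCard.card_eq, Fintype.card_fin] at h1
        omega⟩
      obtain ⟨t, ht⟩ := (powEquiv S W m).surjective z
      obtain ⟨c, rfl⟩ := TensorProduct.eq_repr_basis_right (basisL S (b := b)) t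
      rw [← ht, Subsingleton.elim c 0, Finsupp.sum_zero_index, map_zero]
  exact eq_zero_of_restrict (isFinLocFree_tensorPow S.locFree _) s hW hz

end

end Groth.Agent.Lib.RatForms33
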