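import Mathlib.RingTheory.MvPowerSeries.Equiv
import Mathlib.RingTheory.MvPowerSeries.Order
import Mathlib.RingTheory.MvPowerSeries.Derivative
import Mathlib.RingTheory.Filtration
import Mathlib.RingTheory.Flat.Basic
import Mathlib.RingTheory.FiniteType
import Mathlib.RingTheory.Smooth.AdicCompletion
import Mathlib.RingTheory.TensorProduct.Basic

/-!
# Formal lifts of points along frames of tangent vectors

For a ring map `χ : A → K⟦ε₁, …, εₙ⟧` whose linear part is a frame of derivations at the point given by its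
constant part: every infinitesimal deformation of the point factors through `χ`, the leading forms depend
only on the linear part, and `χ` is injective on a finitely generated domain.
-/

set_option autoImplicit false
set_option linter.style.haveILetI false
universe u

open MvPowerSeries Finsupp
open scoped TensorProduct

namespace Groth.Agent.Lib.RatForms33

noncomputable section

variable {n : ℕ} {K : Type u} [CommRing K]

/-- The series of order at least `j`. -/
def ordI (n : ℕ) (K : Type u) [CommRing K] (j : ℕ) : Ideal (MvPowerSeries (Fin n) K) where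
  carrier := {h | (j : ℕ∞) ≤ h.order}
  add_mem' := fun ha hb => (le_min ha hb).trans min_order_le_add
  zero_mem' := by simp
  smul_mem' := fun c h hh => hh.trans (le_trans le_add_self le_order_mul)

theorem mem_ordI {j : ℕ} {h : MvPowerSeries (Fin n) K} :
    h ∈ ordI n K j ↔ ∀ d : Fin n →₀ ℕ, degree d < j → coeff d h = 0 :=
  ⟨fun hh d hd => coeff_of_lt_order (lt_of_lt_of_le (by exact_mod_cast hd) hh), fun hh => nat_le_order hh⟩

theorem ordI_zero : ordI n K 0 = ⊤ := eq_top_iff.2 fun _ _ => show ((0 : ℕ) : ℕ∞) ≤ _ by simp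

theorem ordI_anti {a b : ℕ} (h : a ≤ b) : ordI n K b ≤ ordI n K a :=
  fun _ hx => le_trans (Nat.cast_le.2 h : (a : ℕ∞) ≤ b) hx

theorem ordI_mul_mem {a b : ℕ} {x y : MvPowerSeries (Fin n) K} (hx : x ∈ ordI n K a) (hy : y ∈ ordI n K b) :
    x * y ∈ ordI n K (a + b) :=
  le_trans (by rw [Nat.cast_add]; exact add_le_add hx hy) le_order_mul

theorem ordI_pow (a : ℕ) : ordI n K 1 ^ a ≤ ordI n K a := by
  induction a with
  | zero => rw [ordI_zero]; exact le_top
  | succ a ih =>
    rw [pow_succ, Ideal.mul_le]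
    exact fun x hx y hy => ordI_mul_mem (ih hx) hy

theorem mem_ordI_one {h : MvPowerSeries (Fin n) K} : h ∈ ordI n K 1 ↔ constantCoeff h = 0 := by
  rw [mem_ordI]
  refine ⟨fun hh => (coeff_zero_eq_constantCoeff_apply h).symm.trans (hh 0 (by simp)), fun hh d hd => ?_⟩
  rw [Nat.lt_one_iff, degree_eq_zero_iff] at hd
  subst hd
  rwa [coeff_zero_eq_constantCoeff_apply]

theorem X_mem_ordI (l : Fin n) : (X l : MvPowerSeries (Fin n) K) ∈ ordI n K 1 :=
  mem_ordI_one.2 (constantCoeff_X l)

section Eval

variable {R : Type u} [CommRing R] [Algebra K R] {J : ℕ} {N : Ideal R} (hN : N ^ J = ⊥)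
  {x : Fin n → R} (hx : ∀ l, x l ∈ N)

include hx in
theorem aeval_mem_pow {i : ℕ} {p : MvPolynomial (Fin n) K}
    (hp : p ∈ MvPolynomial.idealOfVars (Fin n) K ^ i) : MvPolynomial.aeval x p ∈ N ^ i := by
  have h1 : (MvPolynomial.idealOfVars (Fin n) K).map (MvPolynomial.aeval x).toRingHom ≤ N := by
    rw [MvPolynomial.idealOfVars, Ideal.map_span, Ideal.span_le]
    rintro _ ⟨_, ⟨l, rfl⟩, rfl⟩
    simpa using hx l
  have h2 := Ideal.mem_map_of_mem (MvPolynomial.aeval x).toRingHom hp
  rw [Ideal.map_pow] at h2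
  exact Ideal.pow_right_mono h1 i h2

/-- Substitution of elements of a nilpotent ideal into a series. -/
def evJ (J : ℕ) (N : Ideal R) (hN : N ^ J = ⊥) (x : Fin n → R) (hx : ∀ l, x l ∈ N) :
    MvPowerSeries (Fin n) K →+* R :=
  (Ideal.Quotient.lift (MvPolynomial.idealOfVars (Fin n) K ^ J) (MvPolynomial.aeval x).toRingHom
    (fun p hp => (Submodule.mem_bot (R := R)).1 (hN ▸ aeval_mem_pow hx hp))).comp
    (truncTotalAlgHom (Fin n) K J).toRingHom

theorem evJ_apply (h : MvPowerSeries (Fin n) K) :
    evJ J N hN x hx h = MvPolynomial.aeval x (truncTotal J h) := rfl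

theorem evJ_C (c : K) : evJ J N hN x hx (C c) = algebraMap K R c := by
  rcases Nat.eq_zero_or_pos J with rfl | hJ
  · rw [pow_zero, Ideal.one_eq_top] at hN
    haveI : Subsingleton R := by
      refine subsingleton_of_zero_eq_one ((Submodule.mem_bot (R := R)).1 ?_).symm
      rw [← hN]; trivial
    exact Subsingleton.elim _ _
  · rw [evJ_apply, truncTotal, truncFinset_C (by simpa using hJ), MvPolynomial.aeval_C]

theorem evJ_mem_pow {i : ℕ} {h : MvPowerSeries (Fin n) K} (hh : h ∈ ordI n K i) :
    evJ J N hN x hx h ∈ N ^ i := by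
  refine aeval_mem_pow hx ((MvPolynomial.mem_pow_idealOfVars_iff' i _).2 fun d hd => ?_)
  rw [coeff_truncTotal_eq_ite, mem_ordI.1 hh d hd, ite_self]

end Eval

section Diff

variable {R : Type u} [CommRing R] [Algebra K R] {N : Ideal R} {x x' : Fin n → R}

/-- First order term of a change of the substituted elements. -/
theorem aeval_sub_aeval (hx : ∀ l, x l ∈ N) (hx' : ∀ l, x' l ∈ N) {i : ℕ}
    (hd : ∀ l, x' l - x l ∈ N ^ (i + 1)) (p : MvPolynomial (Fin n) K) :
    MvPolynomial.aeval x' p - MvPolynomial.aeval x p -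
      ∑ l, algebraMap K R (p.coeff (single l 1)) * (x' l - x l) ∈ N ^ (i + 2) := by
  classical
  induction p using MvPolynomial.induction_on with
  | C a =>
    have : ∀ l, (MvPolynomial.C a : MvPolynomial (Fin n) K).coeff (single l 1) = 0 := fun l => by
      rw [MvPolynomial.coeff_C, if_neg (by simp [eq_comm (a := (0 : Fin n →₀ ℕ)), single_eq_zero])]
    simp [this]
  | add p q hp hq =>
    have := add_mem hp hq
    convert this using 1
    simp only [map_add, MvPolynomial.coeff_add, add_mul, Finset.sum_add_distrib]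
    ring
  | mul_X p q hp =>
    have hc : ∀ l, (p * MvPolynomial.X q).coeff (single l 1) =
        if q = l then MvPolynomial.constantCoeff p else 0 := fun l => by
      rw [MvPolynomial.coeff_mul_X', MvPolynomial.constantCoeff_eq]
      by_cases h : q = l
      · subst h; rw [if_pos (by simp), if_pos rfl, tsub_self]
      · rw [if_neg h, if_neg (by rw [support_single _ one_ne_zero, Finset.mem_singleton]; exact h)]
    have h0 : MvPolynomial.aeval x' p - algebraMap K R (MvPolynomial.constantCoeff p) ∈ N := by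
      have hp0 : p - MvPolynomial.C (MvPolynomial.constantCoeff p) ∈ MvPolynomial.idealOfVars (Fin n) K ^ 1 := by
        refine (MvPolynomial.mem_pow_idealOfVars_iff' 1 _).2 fun d hd => ?_
        rw [Nat.lt_one_iff, degree_eq_zero_iff] at hd
        subst hd
        simp [MvPolynomial.constantCoeff_eq]
      have := aeval_mem_pow hx' hp0
      simpa using this
    have h1 : MvPolynomial.aeval x' p - MvPolynomial.aeval x p ∈ N ^ (i + 1) := by
      have hs : ∑ l, algebraMap K R (p.coeff (single l 1)) * (x' l - x l) ∈ N ^ (i + 1) :=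
        Submodule.sum_mem _ fun l _ => Ideal.mul_mem_left _ _ (hd l)
      have := add_mem (Ideal.pow_le_pow_right (Nat.le_succ (i + 1)) hp) hs
      simpa using this
    simp only [hc, apply_ite (algebraMap K R), map_zero, ite_mul, zero_mul, Finset.sum_ite_eq,
      Finset.mem_univ, if_true, map_mul, MvPolynomial.aeval_X]
    have key : MvPolynomial.aeval x' p * x' q - MvPolynomial.aeval x p * x q -
        algebraMap K R (MvPolynomial.constantCoeff p) * (x' q - x q) =
        (MvPolynomial.aeval x' p - MvPolynomial.aeval x p) * x q +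
          (MvPolynomial.aeval x' p - algebraMap K R (MvPolynomial.constantCoeff p)) * (x' q - x q) := by ring
    rw [key, pow_succ N (i + 1)]
    refine add_mem (Ideal.mul_mem_mul h1 (hx q)) ?_
    rw [mul_comm (N ^ (i + 1))]
    exact Ideal.mul_mem_mul h0 (hd q)

/-- A second order change does not change leading forms. -/
theorem aeval_sub_aeval_mem (hx : ∀ l, x l ∈ N) (hx' : ∀ l, x' l ∈ N) (hd : ∀ l, x' l - x l ∈ N ^ 2)
    {j : ℕ} {p : MvPolynomial (Fin n) K} (hp : p ∈ MvPolynomial.idealOfVars (Fin n) K ^ j) :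
    MvPolynomial.aeval x' p - MvPolynomial.aeval x p ∈ N ^ (j + 1) := by
  have h2 : ∀ q : MvPolynomial (Fin n) K, MvPolynomial.aeval x' q - MvPolynomial.aeval x q ∈ N ^ 2 := fun q => by
    have hs : ∑ l, algebraMap K R (q.coeff (single l 1)) * (x' l - x l) ∈ N ^ 2 :=
      Submodule.sum_mem _ fun l _ => Ideal.mul_mem_left _ _ (hd l)
    have := add_mem (Ideal.pow_le_pow_right (by omega) (aeval_sub_aeval hx hx' (i := 1) hd q)) hs
    simpa using this
  induction j generalizing p with
  | zero => exact Ideal.pow_le_pow_right (by omega) (h2 p)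
  | succ j ih =>
    rw [pow_succ] at hp
    refine Submodule.mul_induction_on hp (fun a ha b hb => ?_) (fun a b ha hb => ?_)
    · rw [map_mul, map_mul, show MvPolynomial.aeval x' a * MvPolynomial.aeval x' b -
          MvPolynomial.aeval x a * MvPolynomial.aeval x b =
        (MvPolynomial.aeval x' a - MvPolynomial.aeval x a) * MvPolynomial.aeval x b +
          MvPolynomial.aeval x' a * (MvPolynomial.aeval x' b - MvPolynomial.aeval x b) by ring]
      refine add_mem ?_ ?_
      · rw [pow_succ]
        exact Ideal.mul_mem_mul (ih ha) (by simpa using aeval_mem_pow hx (i := 1) (by simpa using hb))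
      · rw [show j + 1 + 1 = j + 2 from rfl, pow_add]
        exact Ideal.mul_mem_mul (aeval_mem_pow hx' ha) (h2 b)
    · have := add_mem ha hb
      convert this using 1
      simp only [map_add]; ring

end Diff

end

section Univ

noncomputable section

variable {n : ℕ} {K : Type u} [Field K] {k : Type u} [Field k] [Algebra k K] {A : Type u} [CommRing A] [Algebra k A]

/-- The linear part of a map to series. -/
def lin (χ : A →+* MvPowerSeries (Fin n) K) (l : Fin n) (a : A) : K := coeff (single l 1) (χ a)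

/-- The frame condition at the constant part. -/
structure IsFramed (χ : A →+* MvPowerSeries (Fin n) K) : Prop where
  cst : ∀ c : k, χ (algebraMap k A c) = C (algebraMap k K c)
  span : ∀ (M : Type u) [AddCommGroup M] [Module K M] (δ : A → M), (∀ a b, δ (a + b) = δ a + δ b) →
    (∀ a b, δ (a * b) = constantCoeff (χ a) • δ b + constantCoeff (χ b) • δ a) →
    (∀ c : k, δ (algebraMap k A c) = 0) → ∃ v : Fin n → M, ∀ a, δ a = ∑ l, lin χ l a • v l
  indep : ∀ v : Fin n → K, (∀ a, ∑ l, lin χ l a * v l = 0) → v = 0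

variable {χ : A →+* MvPowerSeries (Fin n) K}

/-- Every infinitesimal deformation of the point factors through a framed map. -/
theorem exists_evJ_eq (hχ : IsFramed (k := k) χ) {R : Type u} [CommRing R] [Algebra K R] {J : ℕ} {N : Ideal R}
    (hN : N ^ J = ⊥) (ρ : A →+* R) (hρ : ∀ a, ρ a - algebraMap K R (constantCoeff (χ a)) ∈ N)
    (hρk : ∀ c : k, ρ (algebraMap k A c) = algebraMap K R (algebraMap k K c)) :
    ∃ (x : Fin n → R) (hx : ∀ l, x l ∈ N), ∀ a, ρ a = evJ J N hN x hx (χ a) := by
  suffices h : ∀ i, ∃ (x : Fin n → R) (hx : ∀ l, x l ∈ N), ∀ a, ρ a - evJ J N hN x hx (χ a) ∈ N ^ (i + 1) by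
    obtain ⟨x, hx, h⟩ := h J
    refine ⟨x, hx, fun a => sub_eq_zero.1 ((Submodule.mem_bot (R := R)).1 ?_)⟩
    rw [← hN]
    exact Ideal.pow_le_pow_right (Nat.le_succ J) (h a)
  intro i
  induction i with
  | zero =>
    refine ⟨0, fun _ => N.zero_mem, fun a => ?_⟩
    rw [zero_add, pow_one]
    have h1 : χ a - C (constantCoeff (χ a)) ∈ ordI n K 1 := mem_ordI_one.2 (by simp)
    have h2 := evJ_mem_pow hN (fun _ : Fin n => N.zero_mem) (x := (0 : Fin n → R)) h1
    rw [map_sub, evJ_C, pow_one] at h2
    have := sub_mem (hρ a) h2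
    simpa using this
  | succ i ih =>
    obtain ⟨x, hx, hmem⟩ := ih
    let P : Submodule K R := (N ^ (i + 1)).restrictScalars K
    let Q : Submodule K P := ((N ^ (i + 2)).restrictScalars K).comap P.subtype
    let δ : A → P ⧸ Q := fun a => Submodule.Quotient.mk ⟨_, hmem a⟩
    have hmk : ∀ y z : P, (y : R) - z ∈ N ^ (i + 2) → (Submodule.Quotient.mk y : P ⧸ Q) = Submodule.Quotient.mk z :=
      fun y z h => (Submodule.Quotient.eq Q).2 h
    obtain ⟨v, hv⟩ := hχ.span (P ⧸ Q) δ
      (fun a b => hmk _ (⟨_, hmem a⟩ + ⟨_, hmem b⟩) (by simp only [map_add, Submodule.coe_add]; ring_nf; simp))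
      (fun a b => by
        refine hmk _ (constantCoeff (χ a) • ⟨_, hmem b⟩ + constantCoeff (χ b) • ⟨_, hmem a⟩) ?_
        have h1 : χ b - C (constantCoeff (χ b)) ∈ ordI n K 1 := mem_ordI_one.2 (by simp)
        have h2 := evJ_mem_pow hN hx h1
        rw [map_sub, evJ_C, pow_one] at h2
        simp only [map_mul, Submodule.coe_add, Submodule.coe_smul, Algebra.smul_def]
        rw [show ρ a * ρ b - evJ J N hN x hx (χ a) * evJ J N hN x hx (χ b) -
            (algebraMap K R (constantCoeff (χ a)) * (ρ b - evJ J N hN x hx (χ b)) +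
              algebraMap K R (constantCoeff (χ b)) * (ρ a - evJ J N hN x hx (χ a))) =
            (ρ a - evJ J N hN x hx (χ a)) * (evJ J N hN x hx (χ b) - algebraMap K R (constantCoeff (χ b))) +
              (ρ a - algebraMap K R (constantCoeff (χ a))) * (ρ b - evJ J N hN x hx (χ b)) by ring,
          pow_succ N (i + 1)]
        refine add_mem (Ideal.mul_mem_mul (hmem a) h2) ?_
        rw [mul_comm (N ^ (i + 1))]
        exact Ideal.mul_mem_mul (hρ a) (hmem b))
      (fun c => hmk _ 0 (by simp [hρk, hχ.cst, evJ_C]))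
    choose w hw using fun l => Submodule.Quotient.mk_surjective Q (v l)
    have hwN : ∀ l, (w l : R) ∈ N := fun l => Ideal.pow_le_self (Nat.succ_ne_zero i) (w l).2
    refine ⟨fun l => x l + w l, fun l => add_mem (hx l) (hwN l), fun a => ?_⟩
    have hδ : (ρ a - evJ J N hN x hx (χ a)) - ∑ l, algebraMap K R (lin χ l a) * (w l : R) ∈ N ^ (i + 2) := by
      have h : (Submodule.Quotient.mk ⟨_, hmem a⟩ : P ⧸ Q) =
          Submodule.Quotient.mk (∑ l, lin χ l a • w l) := by
        refine (hv a).trans ?_
        simp only [← Submodule.mkQ_apply, map_sum, map_smul]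
        simp only [Submodule.mkQ_apply, hw]
      have := (Submodule.Quotient.eq Q).1 h
      simpa [Q, Algebra.smul_def, Submodule.coe_sum] using this
    rw [evJ_apply]
    by_cases hJ : 2 ≤ J
    · have hl := aeval_sub_aeval hx (fun l => add_mem (hx l) (hwN l)) (i := i)
        (fun l => by rw [add_sub_cancel_left]; exact (w l).2) (truncTotal J (χ a))
      simp only [add_sub_cancel_left] at hl
      simp only [coeff_truncTotal_eq_ite, degree_single, show 1 < J by omega, if_true] at hl
      rw [evJ_apply] at hδ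
      have := sub_mem hδ hl
      convert this using 1
      simp only [lin]; ring
    · have hN0 : N = ⊥ := le_bot_iff.1 (hN ▸ (show N ≤ N ^ J by
        simpa using Ideal.pow_le_pow_right (I := N) (show J ≤ 1 by omega)))
      have hz : ∀ y ∈ N, y = 0 := fun y hy => (Submodule.mem_bot (R := R)).1 (hN0.le hy)
      have h3 := hz _ (Ideal.pow_le_self (Nat.succ_ne_zero i) (hmem a))
      simp only [hz _ (hwN _), add_zero, ← evJ_apply hN hx (χ a), h3]
      exact Submodule.zero_mem _

theorem evJ_X_eq {J : ℕ} (h : MvPowerSeries (Fin n) K)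
    (hN : ((ordI n K 1).map (Ideal.Quotient.mk (ordI n K J))) ^ J = ⊥)
    (hx : ∀ l, Ideal.Quotient.mk (ordI n K J) (X l) ∈ (ordI n K 1).map (Ideal.Quotient.mk (ordI n K J))) :
    evJ J _ hN (fun l => Ideal.Quotient.mk (ordI n K J) (X l)) hx h = Ideal.Quotient.mk _ h := by
  have e : ∀ p : MvPolynomial (Fin n) K, MvPolynomial.aeval (fun l => Ideal.Quotient.mk (ordI n K J) (X l)) p =
      Ideal.Quotient.mk (ordI n K J) (p : MvPowerSeries (Fin n) K) := fun p => by
    induction p using MvPolynomial.induction_on with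
    | C a => simp only [MvPolynomial.aeval_C, MvPolynomial.coe_C]; rfl
    | add p q hp hq => simp only [map_add, MvPolynomial.coe_add, hp, hq]
    | mul_X p q hp => simp only [map_mul, MvPolynomial.coe_mul, MvPolynomial.coe_X, hp, MvPolynomial.aeval_X]
  rw [evJ_apply, e, Ideal.Quotient.mk_eq_mk_iff_sub_mem, mem_ordI]
  intro d hd
  rw [map_sub, MvPolynomial.coeff_coe, coeff_truncTotal _ hd, sub_self]

/-- The leading form only depends on the linear part. -/
theorem lead_eq (hχ : IsFramed (k := k) χ) (χ' : A →+* MvPowerSeries (Fin n) K)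
    (h0 : ∀ a, constantCoeff (χ' a) = constantCoeff (χ a)) (h1 : ∀ l a, lin χ' l a = lin χ l a)
    (hk' : ∀ c : k, χ' (algebraMap k A c) = C (algebraMap k K c))
    {j : ℕ} {g : A} (hg : χ g ∈ ordI n K j) : χ' g - χ g ∈ ordI n K (j + 1) := by
  classical
  let J := j + 2
  let π := Ideal.Quotient.mk (ordI n K J)
  let N := (ordI n K 1).map π
  have hN : N ^ J = ⊥ := by
    rw [← Ideal.map_pow, eq_bot_iff, ← Ideal.map_quotient_self (ordI n K J)]
    exact Ideal.map_mono (ordI_pow J)
  obtain ⟨x, hx, hxa⟩ := exists_evJ_eq hχ hN (π.comp χ') (fun a => by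
    show π (χ' a) - π (C (constantCoeff (χ a))) ∈ N
    rw [← map_sub]
    exact Ideal.mem_map_of_mem π (mem_ordI_one.2 (by simp [h0])))
    (fun c => by show π (χ' _) = π (C _); rw [hk'])
  have hX : ∀ l, π (X l) ∈ N := fun l => Ideal.mem_map_of_mem π (X_mem_ordI l)
  choose y hy hyx using fun l => (Ideal.mem_map_iff_of_surjective π Ideal.Quotient.mk_surjective).1 (hx l)
  have hcoef : ∀ l q, coeff (single q 1) (y l - X l) = 0 := by
    intro l q
    let v : Fin n → K := fun l => coeff (single q 1) (y l - X l)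
    refine congrFun (hχ.indep v fun a => ?_) l
    have hz : χ' a - χ a - ∑ l, C (lin χ l a) * (y l - X l) ∈ ordI n K 2 := by
      have h2 := aeval_sub_aeval (K := K) hX hx (i := 0) (fun l => by
        rw [zero_add, pow_one]; exact sub_mem (hx l) (hX l)) (truncTotal J (χ a))
      rw [← evJ_apply hN hx (χ a), ← evJ_apply hN hX (χ a), ← hxa, evJ_X_eq] at h2
      simp only [coeff_truncTotal_eq_ite, degree_single, show 1 < J by omega, if_true, ← hyx] at h2
      have h3 : π (χ' a - χ a - ∑ l, C (lin χ l a) * (y l - X l)) ∈ N ^ 2 := by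
        simp only [map_sub, map_sum, map_mul]
        exact h2
      rw [← Ideal.map_pow, Ideal.mem_quotient_iff_mem_sup] at h3
      exact sup_le (ordI_pow 2) (ordI_anti (by omega)) h3
    have h4 := (mem_ordI.1 hz) (single q 1) (by rw [degree_single]; omega)
    simp only [map_sub, map_sum, coeff_C_mul] at h4
    have h5 : coeff (single q 1) (χ' a) = coeff (single q 1) (χ a) := h1 q a
    rw [h5, sub_self, zero_sub, neg_eq_zero] at h4
    simpa only [v, map_sub] using h4
  have hd : ∀ l, x l - π (X l) ∈ N ^ 2 := fun l => by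
    rw [← hyx l, ← map_sub]
    have h2 : y l - X l ∈ ordI n K 2 := mem_ordI.2 fun d hd => by
      rcases Nat.lt_succ_iff.1 hd |>.lt_or_eq with hd' | hd'
      · rw [Nat.lt_one_iff, degree_eq_zero_iff] at hd'
        subst hd'
        rw [coeff_zero_eq_constantCoeff_apply]
        exact mem_ordI_one.1 (sub_mem (hy l) (X_mem_ordI l))
      · obtain ⟨q, rfl⟩ : ∃ q, d = single q 1 := by
          simpa [eq_comm] using (Finsupp.range_single_one (σ := Fin n)).symm.le hd'
        exact hcoef l q
    have h6 := evJ_mem_pow hN hX h2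
    rwa [evJ_X_eq] at h6
  have hp : truncTotal J (χ g) ∈ MvPolynomial.idealOfVars (Fin n) K ^ j :=
    (MvPolynomial.mem_pow_idealOfVars_iff' j _).2 fun d hd => by
      rw [coeff_truncTotal_eq_ite, mem_ordI.1 hg d hd, ite_self]
  have h2 := aeval_sub_aeval_mem (K := K) hX hx hd hp
  rw [← evJ_apply hN hx (χ g), ← evJ_apply hN hX (χ g), ← hxa, evJ_X_eq] at h2
  show _ ∈ _
  change π (χ' g) - π (χ g) ∈ _ at h2
  rw [← map_sub, ← Ideal.map_pow, Ideal.mem_quotient_iff_mem_sup] at h2
  exact sup_le (ordI_pow _) (ordI_anti (by omega)) h2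

/-- A framed map on a finitely generated domain is injective. -/
theorem injective_of_framed [IsDomain A] [Algebra.FiniteType k A] (hχ : IsFramed (k := k) χ) :
    Function.Injective χ := by
  rw [injective_iff_map_eq_zero]
  intro g hg
  by_contra hne
  let χ0 : A →ₐ[k] K :=
    { toRingHom := (constantCoeff : MvPowerSeries (Fin n) K →+* K).comp χ
      commutes' := fun c => by show constantCoeff (χ _) = _; rw [hχ.cst, constantCoeff_C] }
  let μ : K ⊗[k] A →ₐ[K] K := Algebra.TensorProduct.lift (AlgHom.id K K) χ0 fun _ _ => mul_comm _ _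
  let I : Ideal (K ⊗[k] A) := RingHom.ker μ.toRingHom
  haveI : IsNoetherianRing (K ⊗[k] A) := Algebra.FiniteType.isNoetherianRing K _
  let ι : A →ₐ[k] K ⊗[k] A := Algebra.TensorProduct.includeRight
  have hmem : ∀ J : ℕ, ι g ∈ I ^ J := by
    intro J
    let π := Ideal.Quotient.mk (I ^ J)
    have hN : (I.map π) ^ J = ⊥ := by rw [← Ideal.map_pow, Ideal.map_quotient_self]
    obtain ⟨x, hx, hxa⟩ := exists_evJ_eq hχ hN (π.comp ι.toRingHom) (fun a => by
      show π (ι a) - π (algebraMap K (K ⊗[k] A) _) ∈ _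
      rw [← map_sub]
      refine Ideal.mem_map_of_mem π (RingHom.mem_ker.2 ?_)
      show μ _ = 0
      rw [map_sub, AlgHom.commutes, sub_eq_zero]
      show (Algebra.TensorProduct.lift (AlgHom.id K K) χ0 fun _ _ => mul_comm _ _) (1 ⊗ₜ[k] a) = χ0 a
      exact (Algebra.TensorProduct.lift_tmul _ _ _ _ _).trans (by simp))
      (fun c => by
        show π (ι (algebraMap k A c)) = π (algebraMap K (K ⊗[k] A) (algebraMap k K c))
        rw [AlgHom.commutes, IsScalarTower.algebraMap_apply k K (K ⊗[k] A)])
    refine Ideal.Quotient.eq_zero_iff_mem.1 ?_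
    have := hxa g
    rw [hg, map_zero] at this
    exact this
  obtain ⟨r, hr⟩ := (Ideal.mem_iInf_smul_pow_eq_bot_iff I (ι g)).1
    ((Submodule.mem_iInf _).2 fun J => by rw [Ideal.smul_eq_mul, Ideal.mul_top]; exact hmem J)
  have h1 : ((1 : K ⊗[k] A) - r) * ι g = 0 := by rw [sub_mul, one_mul, ← smul_eq_mul, hr, sub_self]
  have hinj : Function.Injective (LinearMap.lTensor K (LinearMap.mulLeft k g)) :=
    Module.Flat.lTensor_preserves_injective_linearMap _ (mul_right_injective₀ hne)
  have h2 : ∀ t : K ⊗[k] A, LinearMap.lTensor K (LinearMap.mulLeft k g) t = t * ι g := fun t => by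
    induction t using TensorProduct.induction_on with
    | zero => simp
    | add a b ha hb => rw [map_add, ha, hb, add_mul]
    | tmul c a => simp [ι, mul_comm g a]
  have h3 : (1 : K ⊗[k] A) - r = 0 := hinj (by rw [h2, map_zero, h1])
  have h4 := RingHom.mem_ker.1 r.2
  change μ r = 0 at h4
  rw [← sub_eq_zero.1 h3, map_one] at h4
  exact one_ne_zero h4

end

end Univ

end Groth.Agent.Lib.RatForms33
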