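import Groth.Agent.Lib.RatForms33.Main
import Groth.Agent.H34.HyperEll.Cover
import Mathlib.RingTheory.PowerSeries.Inverse

/-!
# The Taylor expansion of rational functions on the projective line
-/

set_option autoImplicit false
set_option linter.style.haveILetI false
universe u

open CategoryTheory AlgebraicGeometry Opposite TopologicalSpace

namespace Groth.Agent.Lib.RatForms33

open Groth.Agent.Lib Groth.Agent.Lib.REqForms33
open Groth.Agent.H34.SplitP1 (P1 U U01 U01_le φ ψ data φ_bijective ψ_apply)
open Groth.Agent.Lib.TensorMod.Dual (rs rf)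

noncomputable section

variable {k : Type u} [Field k]

/-- The polynomial functions of a chart, at a point. -/
def chv (a : Fin 2) (v : P1 k) (hv : v ∈ U k a) : Polynomial k →+* B v :=
  ((P1 k).presheaf.germ (U k a) v hv).hom.comp (φ k a)

theorem chv_C (a : Fin 2) (v : P1 k) (hv : v ∈ U k a) (c : k) :
    chv a v hv (Polynomial.C c) = algebraMap k (B v) c := by
  rw [algebraMap_B v (U k a) hv]
  exact congrArg ((P1 k).presheaf.germ (U k a) v hv)
    congr($(Groth.Agent.H34.HyperEll.constants_chart (k := k) a) c)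

theorem sp_chv (a : Fin 2) (v : P1 k) (hv : v ∈ U k a) (p : Polynomial k) :
    sp v (chv a v hv p) = chv a ηP (η_mem_U a) p :=
  sp_germ v _ hv _

/-- The coordinate at the generic point. -/
def crdη (a : Fin 2) : B (ηP (k := k)) := chv a ηP (η_mem_U a) Polynomial.X

theorem crdη_mul : crdη (k := k) 0 * crdη 1 = 1 := by
  have hη01 : (ηP : P1 k) ∈ U01 k := ⟨η_mem_U 0, η_mem_U 1⟩
  have := congrArg ((P1 k).presheaf.germ (U01 k) ηP hη01) (Groth.Agent.H34.SplitP1.ψ_mul_ψ k)
  rw [map_mul, map_one, ψ_apply, ψ_apply, germ_eq_rf, germ_eq_rf] at this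
  exact this

/-- The expansion of the coordinate of a chart. -/
def taylorX : ∀ (a : Fin 2) (v : P1 k), v ∈ U k a → PowerSeries (B v) :=
  fun a v hv => if a = 0 then PowerSeries.C (chv a v hv Polynomial.X) + PowerSeries.X
    else PowerSeries.C (chv a v hv Polynomial.X) *
      PowerSeries.invOfUnit (1 + PowerSeries.C (chv a v hv Polynomial.X) * PowerSeries.X) 1

theorem constantCoeff_taylorX (a : Fin 2) (v : P1 k) (hv : v ∈ U k a) :
    PowerSeries.constantCoeff (taylorX a v hv) = chv a v hv Polynomial.X := by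
  rw [taylorX]
  split_ifs
  · simp
  · simp [PowerSeries.constantCoeff_invOfUnit]

/-- The expansion of polynomial functions. -/
def taylorP (a : Fin 2) (v : P1 k) (hv : v ∈ U k a) : Polynomial k →+* PowerSeries (B v) :=
  Polynomial.eval₂RingHom ((PowerSeries.C (R := B v)).comp (algebraMap k (B v))) (taylorX a v hv)

theorem constantCoeff_taylorP (a : Fin 2) (v : P1 k) (hv : v ∈ U k a) (p : Polynomial k) :
    PowerSeries.constantCoeff (taylorP a v hv p) = chv a v hv p := by
  have : (PowerSeries.constantCoeff (R := B v)).comp (taylorP a v hv) = chv a v hv :=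
    Polynomial.ringHom_ext (fun c => by simp [taylorP, chv_C]) (by simp [taylorP, constantCoeff_taylorX])
  exact congr($this p)

theorem exists_taylor (a : Fin 2) (v : P1 k) (hv : v ∈ U k a) :
    ∃ T : B v →+* PowerSeries (B v), (∀ p, T (chv a v hv p) = taylorP a v hv p) ∧
      ∀ y, PowerSeries.constantCoeff (T y) = y := by
  have hU : IsAffineOpen (U k a) := ProjSpace.Basic.isAffineOpen_basicOpen_X (R := k) a
  letI : Algebra Γ(P1 k, U k a) (B v) := (P1 k).presheaf.algebra_section_stalk ⟨v, hv⟩
  haveI : IsLocalization.AtPrime (B v) (hU.primeIdealOf ⟨v, hv⟩).asIdeal := hU.isLocalization_stalk ⟨v, hv⟩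
  let e : Polynomial k ≃+* Γ(P1 k, U k a) := RingEquiv.ofBijective _ (φ_bijective k a)
  let G : Γ(P1 k, U k a) →+* PowerSeries (B v) := (taylorP a v hv).comp e.symm.toRingHom
  have hG : ∀ r, PowerSeries.constantCoeff (G r) = algebraMap Γ(P1 k, U k a) (B v) r := fun r => by
    refine (constantCoeff_taylorP a v hv (e.symm r)).trans ?_
    exact congrArg _ (e.apply_symm_apply r)
  have hu : ∀ s : (hU.primeIdealOf ⟨v, hv⟩).asIdeal.primeCompl, IsUnit (G s) := fun s => by
    rw [PowerSeries.isUnit_iff_constantCoeff, hG]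
    exact IsLocalization.map_units _ s
  let T : B v →+* PowerSeries (B v) := IsLocalization.lift hu
  refine ⟨T, fun p => ?_, fun y => ?_⟩
  · have : T (algebraMap Γ(P1 k, U k a) (B v) (φ k a p)) = G (φ k a p) := IsLocalization.lift_eq hu _
    refine this.trans ?_
    exact congrArg (taylorP a v hv) (e.symm_apply_apply p)
  · have := IsLocalization.ringHom_ext (hU.primeIdealOf ⟨v, hv⟩).asIdeal.primeCompl (S := B v)
      (j := (PowerSeries.constantCoeff (R := B v)).comp T) (k := RingHom.id _) (RingHom.ext fun r => by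
        simp only [RingHom.comp_apply, RingHom.id_apply]
        rw [show T (algebraMap _ _ r) = G r from IsLocalization.lift_eq hu r, hG])
    exact congr($this y)

/-- The expansion of functions at a point of a chart. -/
def taylor (a : Fin 2) (v : P1 k) (hv : v ∈ U k a) : B v →+* PowerSeries (B v) := (exists_taylor a v hv).choose

theorem taylor_chv (a : Fin 2) (v : P1 k) (hv : v ∈ U k a) (p : Polynomial k) :
    taylor a v hv (chv a v hv p) = taylorP a v hv p := (exists_taylor a v hv).choose_spec.1 p

theorem constantCoeff_taylor (a : Fin 2) (v : P1 k) (hv : v ∈ U k a) (y : B v) :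
    PowerSeries.constantCoeff (taylor a v hv y) = y := (exists_taylor a v hv).choose_spec.2 y

/-- The expansion of rational functions in the coordinate of the first chart. -/
def taylorK : B (ηP (k := k)) →+* PowerSeries (B (ηP (k := k))) := taylor 0 ηP (η_mem_U 0)

theorem taylorK_C (c : k) : taylorK (algebraMap k (B (ηP (k := k))) c) = PowerSeries.C (algebraMap k _ c) := by
  rw [← chv_C 0 ηP (η_mem_U 0), taylorK, taylor_chv]
  simp [taylorP, chv_C]

theorem taylorK_crdη_one : taylorK (k := k) (crdη 1) = taylorX 1 ηP (η_mem_U 1) := by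
  have h0 : taylorK (k := k) (crdη 0) = taylorX 0 ηP (η_mem_U 0) := by
    rw [taylorK, crdη, taylor_chv]
    simp [taylorP]
  have h1 : taylorK (k := k) (crdη 0) * taylorK (crdη 1) = 1 := by rw [← map_mul, crdη_mul, map_one]
  have h2 : taylorX 0 (ηP (k := k)) (η_mem_U 0) * taylorX 1 ηP (η_mem_U 1) = 1 := by
    rw [taylorX, taylorX, if_pos rfl, if_neg (by decide : ¬ (1 : Fin 2) = 0)]
    show (PowerSeries.C (crdη 0) + PowerSeries.X) * (PowerSeries.C (crdη 1) *
      PowerSeries.invOfUnit (1 + PowerSeries.C (crdη 1) * PowerSeries.X) 1) = 1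
    rw [← mul_assoc, show (PowerSeries.C (crdη (k := k) 0) + PowerSeries.X) * PowerSeries.C (crdη 1) =
      1 + PowerSeries.C (crdη 1) * PowerSeries.X by rw [add_mul, ← map_mul, crdη_mul, map_one, mul_comm PowerSeries.X]]
    exact PowerSeries.mul_invOfUnit _ _ (by simp)
  rw [h0] at h1
  exact left_inv_eq_right_inv ((mul_comm _ _).trans h1) h2

theorem map_taylor (a : Fin 2) (v : P1 k) (hv : v ∈ U k a) (y : B v) :
    PowerSeries.map (sp v).toRingHom (taylor a v hv y) = taylorK (sp v y) := by
  have hU : IsAffineOpen (U k a) := ProjSpace.Basic.isAffineOpen_basicOpen_X (R := k) a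
  letI : Algebra Γ(P1 k, U k a) (B v) := (P1 k).presheaf.algebra_section_stalk ⟨v, hv⟩
  haveI : IsLocalization.AtPrime (B v) (hU.primeIdealOf ⟨v, hv⟩).asIdeal := hU.isLocalization_stalk ⟨v, hv⟩
  have hX : PowerSeries.map (sp v).toRingHom (taylorX a v hv) = taylorK (crdη a) := by
    obtain rfl | rfl : a = 0 ∨ a = 1 := by omega
    · rw [taylorX, if_pos rfl, taylorK, crdη, taylor_chv]
      simp only [taylorP, Polynomial.coe_eval₂RingHom, Polynomial.eval₂_X, taylorX, if_pos rfl, map_add,
        PowerSeries.map_C, PowerSeries.map_X]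
      exact congrArg (PowerSeries.C · + _) (sp_chv 0 v hv _)
    · rw [taylorK_crdη_one, taylorX, taylorX, if_neg (by decide : ¬ (1 : Fin 2) = 0),
        if_neg (by decide : ¬ (1 : Fin 2) = 0), map_mul, PowerSeries.map_C]
      have hsp : (sp v).toRingHom (chv 1 v hv Polynomial.X) = chv 1 ηP (η_mem_U 1) Polynomial.X := sp_chv 1 v hv _
      rw [hsp]
      refine congrArg (_ * ·) (left_inv_eq_right_inv (a := PowerSeries.map (sp v).toRingHom
        (1 + PowerSeries.C (chv 1 v hv Polynomial.X) * PowerSeries.X)) ?_ ?_)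
      · rw [← map_mul, PowerSeries.invOfUnit_mul _ _ (by simp), map_one]
      · rw [map_add, map_one, map_mul, PowerSeries.map_C, PowerSeries.map_X, hsp]
        exact PowerSeries.mul_invOfUnit _ _ (by simp)
  have := IsLocalization.ringHom_ext (hU.primeIdealOf ⟨v, hv⟩).asIdeal.primeCompl (S := B v)
    (j := (PowerSeries.map (sp v).toRingHom).comp (taylor a v hv)) (k := taylorK.comp (sp v).toRingHom)
    (RingHom.ext fun r => by
      obtain ⟨p, rfl⟩ := (φ_bijective k a).2 r
      show PowerSeries.map (sp v).toRingHom (taylor a v hv (chv a v hv p)) = taylorK (sp v (chv a v hv p))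
      rw [taylor_chv, sp_chv]
      have h2 : (PowerSeries.map (sp v).toRingHom).comp (taylorP a v hv) = taylorK.comp (chv a ηP (η_mem_U a)) :=
        Polynomial.ringHom_ext (fun c => by simp [taylorP, chv_C, taylorK_C]) (by
          simp only [RingHom.comp_apply, taylorP, Polynomial.coe_eval₂RingHom, Polynomial.eval₂_X]
          exact hX)
      exact congr($h2 p))
  exact congr($this y)

theorem coeff_taylor_mem (v : P1 k) (hv : v ∈ U k 1) (hv0 : v ∉ U k 0) (y : B v) {N : ℕ} (hN : N ≠ 0) :
    PowerSeries.coeff N (taylor 1 v hv y) ∈ IsLocalRing.maximalIdeal (B v) := by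
  let π := IsLocalRing.residue (B v)
  have hu : π (chv 1 v hv Polynomial.X) = 0 :=
    (IsLocalRing.residue_eq_zero_iff _).2 fun h => hv0 ((isUnit_germ_φX hv).1 h)
  have hU : IsAffineOpen (U k 1) := ProjSpace.Basic.isAffineOpen_basicOpen_X (R := k) 1
  letI : Algebra Γ(P1 k, U k 1) (B v) := (P1 k).presheaf.algebra_section_stalk ⟨v, hv⟩
  haveI : IsLocalization.AtPrime (B v) (hU.primeIdealOf ⟨v, hv⟩).asIdeal := hU.isLocalization_stalk ⟨v, hv⟩
  have := IsLocalization.ringHom_ext (hU.primeIdealOf ⟨v, hv⟩).asIdeal.primeCompl (S := B v)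
    (j := (PowerSeries.map π).comp (taylor 1 v hv)) (k := (PowerSeries.C).comp π)
    (RingHom.ext fun r => by
      obtain ⟨p, rfl⟩ := (φ_bijective k 1).2 r
      show PowerSeries.map π (taylor 1 v hv (chv 1 v hv p)) = PowerSeries.C (π (chv 1 v hv p))
      rw [taylor_chv]
      have h2 : (PowerSeries.map π).comp (taylorP 1 v hv) = ((PowerSeries.C).comp π).comp (chv 1 v hv) :=
        Polynomial.ringHom_ext (fun c => by simp [taylorP, chv_C]) (by
          simp [taylorP, taylorX, hu])
      exact congr($h2 p))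
  have h3 := congrArg (PowerSeries.coeff N) congr($this y)
  simp only [RingHom.comp_apply, PowerSeries.coeff_map, PowerSeries.coeff_C, if_neg hN] at h3
  exact (IsLocalRing.residue_eq_zero_iff _).1 h3

/-- Only constants have constant expansions. -/
theorem mem_range_of_taylorK (y : B (ηP (k := k))) (h : taylorK y = PowerSeries.C y) :
    y ∈ (algebraMap k (B (ηP (k := k)))).range := by
  let η' : P1 k := ηP
  have hU : IsAffineOpen (U k 0) := ProjSpace.Basic.isAffineOpen_basicOpen_X (R := k) 0
  letI : Algebra Γ(P1 k, U k 0) (B η') := (P1 k).presheaf.algebra_section_stalk ⟨η', η_mem_U 0⟩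
  haveI : IsLocalization.AtPrime (B η') (hU.primeIdealOf ⟨η', η_mem_U 0⟩).asIdeal :=
    hU.isLocalization_stalk ⟨η', η_mem_U 0⟩
  have hinj : Function.Injective (chv (k := k) 0 ηP (η_mem_U 0)) := by
    haveI : Nonempty (U k 0 : (P1 k).Opens) := Groth.Agent.H34.SplitP1.nonempty_U 0
    exact (germ_injective_of_isIntegral (P1 k) ηP (η_mem_U 0)).comp (φ_bijective k 0).1
  let t : B (ηP (k := k)) := crdη 0
  let F := (algebraMap k (B (ηP (k := k))))
  have hcoe : ∀ q : Polynomial k, taylorP 0 ηP (η_mem_U 0) q =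
      ((Polynomial.taylor t (q.map F)) : Polynomial (B (ηP (k := k)))).toPowerSeries := by
    intro q
    have : taylorP 0 (ηP (k := k)) (η_mem_U 0) = (Polynomial.coeToPowerSeries.ringHom).comp
        (((Polynomial.taylorAlgHom t).toRingHom).comp (Polynomial.mapRingHom F)) :=
      Polynomial.ringHom_ext (fun c => by simp [taylorP, F]) (by
        simp only [taylorP, Polynomial.coe_eval₂RingHom, Polynomial.eval₂_X, taylorX, if_pos rfl]
        simp [t, crdη, add_comm])
    exact congr($this q)
  have heval : ∀ q : Polynomial k, (q.map F).eval t = chv 0 ηP (η_mem_U 0) q := by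
    intro q
    have : (Polynomial.evalRingHom t).comp (Polynomial.mapRingHom F) = chv 0 (ηP (k := k)) (η_mem_U 0) :=
      Polynomial.ringHom_ext (fun c => by simp [F, chv_C]) (by simp [t, crdη])
    exact congr($this q)
  have hP : ∀ p : Polynomial k, PowerSeries.coeff p.natDegree (taylorP 0 ηP (η_mem_U 0) p) =
      algebraMap k _ p.leadingCoeff := fun p => by
    rw [hcoe, Polynomial.coeff_coe, ← Polynomial.natDegree_map F (p := p), Polynomial.coeff_taylor_natDegree,
      Polynomial.leadingCoeff_map]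
  obtain ⟨⟨r, s⟩, hrs⟩ := IsLocalization.surj (hU.primeIdealOf ⟨η', η_mem_U 0⟩).asIdeal.primeCompl (y : B η')
  obtain ⟨p, rfl⟩ := (φ_bijective k 0).2 r
  obtain ⟨q, hq⟩ := (φ_bijective k 0).2 s.1
  have hyq : y * chv 0 ηP (η_mem_U 0) q = chv 0 ηP (η_mem_U 0) p := by
    show y * (P1 k).presheaf.germ _ _ _ (φ k 0 q) = _
    rw [hq]
    exact hrs
  have hT := congrArg taylorK hyq
  rw [map_mul, h, taylorK, taylor_chv, taylor_chv] at hT
  by_cases hq0 : q = 0
  · exfalso
    subst hq0
    have := IsLocalization.map_units (B η') s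
    rw [← hq, map_zero, map_zero] at this
    exact not_isUnit_zero this
  have h1 := congrArg (PowerSeries.coeff q.natDegree) hT
  rw [PowerSeries.coeff_C_mul, hP] at h1
  have hy : ∃ r' : Polynomial k, y = chv 0 ηP (η_mem_U 0) r' := by
    refine ⟨(Polynomial.hasseDeriv q.natDegree p) * Polynomial.C q.leadingCoeff⁻¹, ?_⟩
    have h2 : PowerSeries.coeff q.natDegree (taylorP 0 ηP (η_mem_U 0) p) =
        chv 0 ηP (η_mem_U 0) (Polynomial.hasseDeriv q.natDegree p) := by
      rw [hcoe, Polynomial.coeff_coe, Polynomial.taylor_coeff, ← heval]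
      congr 1
      ext m
      simp [Polynomial.hasseDeriv_coeff, Polynomial.coeff_map]
    rw [map_mul, ← h2, ← h1, chv_C, map_inv₀, mul_inv_cancel_right₀]
    exact fun hz => Polynomial.leadingCoeff_ne_zero.2 hq0 ((algebraMap k _).injective (hz.trans (map_zero _).symm))
  obtain ⟨r', rfl⟩ := hy
  rw [taylorK, taylor_chv] at h
  by_cases hd : r'.natDegree = 0
  · exact ⟨r'.coeff 0, by rw [← chv_C 0 ηP (η_mem_U 0), ← Polynomial.eq_C_of_natDegree_eq_zero hd]⟩
  · exfalso
    have h3 := congrArg (PowerSeries.coeff r'.natDegree) h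
    rw [hP, PowerSeries.coeff_C, if_neg hd] at h3
    have h4 : r'.leadingCoeff = 0 := (algebraMap k (B (ηP (k := k)))).injective (h3.trans (map_zero _).symm)
    rw [Polynomial.leadingCoeff_eq_zero.1 h4] at hd
    exact hd Polynomial.natDegree_zero

end

end Groth.Agent.Lib.RatForms33
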